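import Mathlib.GroupTheory.SpecificGroups.Dihedral
import Mathlib.GroupTheory.PGroup
import Mathlib.Tactic

/-!
# Dihedral 2-subgroups

`DiData P σ τ M₀`: `P = ⟨σ, τ⟩` is dihedral of order `4 M₀`, `σ` of order `2 M₀`, `M₀ ≥ 2` a power of
two. An element of odd order that fixes the central involution and normalises a subgroup of `P`
centralises it.
-/

set_option autoImplicit false

namespace Cfsg.Agent.DihedralDefect

universe u

variable {G : Type u} [Group G]

/-- `P = ⟨σ, τ⟩` is a dihedral 2-group of order `4 M₀`. -/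
structure DiData (P : Subgroup G) (σ τ : G) (M₀ : ℕ) : Prop where
  two_le : 2 ≤ M₀
  two_pow : ∃ a, M₀ = 2 ^ a
  σ_mem : σ ∈ P
  τ_mem : τ ∈ P
  order : orderOf σ = 2 * M₀
  τ_sq : τ * τ = 1
  τ_conj : τ * σ * τ⁻¹ = σ⁻¹
  τ_not : τ ∉ Subgroup.zpowers σ
  cover : ∀ v ∈ P, v ∈ Subgroup.zpowers σ ∨ τ * v ∈ Subgroup.zpowers σ
  card : Nat.card P = 4 * M₀

theorem exists_diData {P : Subgroup G} {n : ℕ} (hn : 3 ≤ n)
    (hiso : Nonempty (P ≃* DihedralGroup (2 ^ (n - 1)))) :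
    ∃ σ τ, DiData P σ τ (2 ^ (n - 2)) := by
  obtain ⟨φ⟩ := hiso
  have hm : 2 ^ (n - 1) = 2 * 2 ^ (n - 2) := by
    rw [← pow_succ']
    congr 1
    omega
  refine ⟨(φ.symm (DihedralGroup.r 1) : G), (φ.symm (DihedralGroup.sr 0) : G), ?_⟩
  refine ⟨?_, ⟨_, rfl⟩, SetLike.coe_mem _, SetLike.coe_mem _, ?_, ?_, ?_, ?_, ?_, ?_⟩
  · calc 2 = 2 ^ 1 := rfl
      _ ≤ _ := Nat.pow_le_pow_right (by norm_num) (by omega)
  · rw [Subgroup.orderOf_coe, MulEquiv.orderOf_eq, DihedralGroup.orderOf_r_one, hm]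
  · rw [← Subgroup.coe_mul, ← map_mul, DihedralGroup.sr_mul_sr, sub_zero, ← DihedralGroup.one_def,
      map_one, OneMemClass.coe_one]
  · rw [← Subgroup.coe_mul, ← Subgroup.coe_inv, ← Subgroup.coe_inv, ← Subgroup.coe_mul, ← map_inv,
      ← map_mul, ← map_mul, ← map_inv]
    congr 2
    simp [DihedralGroup.sr_mul_r, DihedralGroup.inv_r]
  · rintro ⟨k, hk⟩
    have h : φ.symm ((DihedralGroup.r 1) ^ k) = φ.symm (DihedralGroup.sr 0) :=
      Subtype.ext (by rw [map_zpow, Subgroup.coe_zpow]; exact hk)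
    have h' := φ.symm.injective h
    rw [DihedralGroup.r_one_zpow] at h'
    cases h'
  · intro v hv
    rcases h : φ ⟨v, hv⟩ with i | i
    · left
      refine ⟨(i.val : ℤ), ?_⟩
      show ((φ.symm (DihedralGroup.r 1) : P) : G) ^ (i.val : ℤ) = v
      rw [zpow_natCast, ← Subgroup.coe_pow, ← map_pow, DihedralGroup.r_one_pow,
        ZMod.natCast_zmod_val, ← h, MulEquiv.symm_apply_apply]
    · right
      refine ⟨(i.val : ℤ), ?_⟩
      show ((φ.symm (DihedralGroup.r 1) : P) : G) ^ (i.val : ℤ) = _ * v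
      rw [zpow_natCast, ← Subgroup.coe_pow, ← map_pow, DihedralGroup.r_one_pow,
        ZMod.natCast_zmod_val, show v = ((φ.symm (DihedralGroup.sr i) : P) : G) by
          rw [← h, MulEquiv.symm_apply_apply], ← Subgroup.coe_mul, ← map_mul,
        DihedralGroup.sr_mul_sr, sub_zero]
  · rw [Nat.card_congr φ.toEquiv, DihedralGroup.nat_card, hm]
    ring

namespace DiData

variable {P : Subgroup G} {σ τ : G} {M₀ : ℕ} (hD : DiData P σ τ M₀)
include hD

theorem K_le : Subgroup.zpowers σ ≤ P := Subgroup.zpowers_le.2 hD.σ_mem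

theorem z_mem : σ ^ M₀ ∈ P := pow_mem hD.σ_mem _

theorem z_ne : σ ^ M₀ ≠ 1 := fun h => by
  have h1 := Nat.le_of_dvd (by have := hD.two_le; omega) (orderOf_dvd_of_pow_eq_one h)
  rw [hD.order] at h1
  have := hD.two_le
  omega

theorem z_sq : σ ^ M₀ * σ ^ M₀ = 1 := by
  rw [← pow_add, ← two_mul, ← hD.order, pow_orderOf_eq_one]

theorem z_inv : (σ ^ M₀)⁻¹ = σ ^ M₀ := inv_eq_of_mul_eq_one_right hD.z_sq

/-- An element outside the rotations inverts every rotation. -/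
theorem conj_rot {v r : G} (hv : v ∈ P) (hvK : v ∉ Subgroup.zpowers σ)
    (hr : r ∈ Subgroup.zpowers σ) : v * r * v⁻¹ = r⁻¹ := by
  obtain ⟨k, hk⟩ := (hD.cover v hv).resolve_left hvK
  obtain ⟨j, rfl⟩ := hr
  have hk' : v = τ * σ ^ k := by
    show v = τ * (fun x : ℤ => σ ^ x) k
    rw [hk, ← mul_assoc, hD.τ_sq, one_mul]
  subst hk'
  have hτj : τ * σ ^ j * τ⁻¹ = (σ ^ j)⁻¹ := by
    rw [← MulAut.conj_apply, map_zpow, MulAut.conj_apply, hD.τ_conj, inv_zpow]
  show τ * σ ^ k * σ ^ j * (τ * σ ^ k)⁻¹ = (σ ^ j)⁻¹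
  rw [mul_inv_rev, ← hτj]
  group

/-- An element outside the rotations is an involution. -/
theorem refl_sq {v : G} (hv : v ∈ P) (hvK : v ∉ Subgroup.zpowers σ) : v * v = 1 := by
  have h := (hD.cover v hv).resolve_left hvK
  have h1 := hD.conj_rot hv hvK h
  have h3 : v * τ = (τ * v)⁻¹ := by rw [← h1]; group
  have h4 : τ⁻¹ = τ := inv_eq_of_mul_eq_one_right hD.τ_sq
  rw [mul_inv_rev, h4] at h3
  rw [mul_eq_one_iff_eq_inv]
  exact mul_right_cancel h3

theorem refl_inv {v : G} (hv : v ∈ P) (hvK : v ∉ Subgroup.zpowers σ) : v⁻¹ = v :=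
  inv_eq_of_mul_eq_one_right (hD.refl_sq hv hvK)

/-- The product of two elements outside the rotations is a rotation. -/
theorem refl_mul {v w : G} (hv : v ∈ P) (hvK : v ∉ Subgroup.zpowers σ) (hw : w ∈ P)
    (hwK : w ∉ Subgroup.zpowers σ) : v * w ∈ Subgroup.zpowers σ := by
  have h1 := (hD.cover v hv).resolve_left hvK
  have h2 := (hD.cover w hw).resolve_left hwK
  rw [← hD.refl_inv hv hvK, show v⁻¹ * w = (τ * v)⁻¹ * (τ * w) by group]
  exact mul_mem (inv_mem h1) h2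

/-- A rotation of square one is `1` or the central involution. -/
theorem rot_sq {r : G} (hr : r ∈ Subgroup.zpowers σ) (h2 : r * r = 1) : r = 1 ∨ r = σ ^ M₀ := by
  obtain ⟨j, rfl⟩ := hr
  have h2' : σ ^ (j + j) = 1 := by rw [zpow_add]; exact h2
  have h := orderOf_dvd_iff_zpow_eq_one.2 h2'
  rw [hD.order] at h
  obtain ⟨c, hc⟩ := h
  have hj : j = (M₀ : ℤ) * c := by push_cast at hc; linarith
  show σ ^ j = 1 ∨ σ ^ j = σ ^ M₀
  rw [hj, zpow_mul, zpow_natCast]
  rcases Int.even_or_odd c with ⟨d, rfl⟩ | ⟨d, rfl⟩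
  · left
    rw [← two_mul, zpow_mul, show (σ ^ M₀) ^ (2 : ℤ) = 1 by rw [zpow_two, hD.z_sq], one_zpow]
  · right
    rw [zpow_add, zpow_mul, show (σ ^ M₀) ^ (2 : ℤ) = 1 by rw [zpow_two, hD.z_sq], one_zpow,
      one_mul, zpow_one]

/-- `σ ^ M₀` commutes with `P`. -/
theorem z_comm {v : G} (hv : v ∈ P) : σ ^ M₀ * v = v * σ ^ M₀ := by
  by_cases hvK : v ∈ Subgroup.zpowers σ
  · obtain ⟨k, rfl⟩ := hvK
    exact ((Commute.refl σ).pow_left M₀).zpow_right k
  · have h := hD.conj_rot hv hvK (pow_mem (Subgroup.mem_zpowers σ) M₀)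
    rw [hD.z_inv, mul_inv_eq_iff_eq_mul] at h
    exact h.symm

theorem exists_pow_two : ∃ a, orderOf σ = 2 ^ a := by
  obtain ⟨a, ha⟩ := hD.two_pow
  exact ⟨a + 1, by rw [hD.order, ha, pow_succ']⟩

/-- The central involution is a power of every nontrivial rotation. -/
theorem z_mem_zpowers {r : G} (hr : r ∈ Subgroup.zpowers σ) (h1 : r ≠ 1) :
    σ ^ M₀ ∈ Subgroup.zpowers r := by
  obtain ⟨a, ha⟩ := hD.exists_pow_two
  have hd : orderOf r ∣ 2 ^ a := by
    rw [← ha]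
    obtain ⟨k, rfl⟩ := hr
    refine orderOf_dvd_of_pow_eq_one ?_
    rw [← zpow_natCast, ← zpow_mul, mul_comm, zpow_mul, zpow_natCast, pow_orderOf_eq_one, one_zpow]
  obtain ⟨c, -, hc⟩ := (Nat.dvd_prime_pow Nat.prime_two).1 hd
  cases c with
  | zero => exact absurd (orderOf_eq_one_iff.1 (by simpa using hc)) h1
  | succ c =>
    have hw : r ^ 2 ^ c * r ^ 2 ^ c = 1 := by
      rw [← pow_add, ← two_mul, ← pow_succ', ← hc, pow_orderOf_eq_one]
    rcases hD.rot_sq (pow_mem hr _) hw with h | h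
    · exfalso
      have h' := Nat.le_of_dvd (Nat.two_pow_pos c) (orderOf_dvd_of_pow_eq_one h)
      rw [hc, pow_succ] at h'
      have := Nat.two_pow_pos c
      omega
    · rw [← h]
      exact pow_mem (Subgroup.mem_zpowers r) _

/-- The centralizer of a nontrivial rotation lies in that of the central involution. -/
theorem centralizer_le {r : G} (hr : r ∈ Subgroup.zpowers σ) (h1 : r ≠ 1) :
    Subgroup.centralizer ({r} : Set G) ≤ Subgroup.centralizer ({σ ^ M₀} : Set G) := fun c hc => by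
  obtain ⟨k, hk⟩ := hD.z_mem_zpowers hr h1
  rw [Subgroup.mem_centralizer_singleton_iff] at hc ⊢
  rw [← hk]
  exact (Commute.zpow_right hc k).eq

/-- An element of odd order fixing the central involution centralizes every subgroup of `P` it
normalises. -/
theorem commute_of_normalizes {x : G} {Q : Subgroup G} (hodd : Odd (orderOf x)) (hQ : Q ≤ P)
    (hz : x * σ ^ M₀ * x⁻¹ = σ ^ M₀) (hx : ∀ q ∈ Q, x * q * x⁻¹ ∈ Q) {q : G} (hq : q ∈ Q) :
    x * q * x⁻¹ = q := by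
  have hrot : ∀ r ∈ Q, r ∈ Subgroup.zpowers σ → r * r ≠ 1 →
      x * r * x⁻¹ ∈ Subgroup.zpowers σ := by
    intro r hr hrK h2
    by_contra hn
    have h := hD.refl_sq (hQ (hx r hr)) hn
    apply h2
    have : x * (r * r) * x⁻¹ = x * r * x⁻¹ * (x * r * x⁻¹) := by group
    rw [h, mul_inv_eq_one, mul_eq_left] at this
    exact this
  obtain ⟨a, ha⟩ := hD.exists_pow_two
  have hfix : ∀ c : ℕ, ∀ r ∈ Q, r ∈ Subgroup.zpowers σ → r ^ 2 ^ c = 1 → x * r * x⁻¹ = r := by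
    intro c
    induction c with
    | zero =>
      intro r _ _ h
      rw [pow_zero, pow_one] at h
      simp [h]
    | succ c ih =>
      intro r hr hrK h
      by_cases h2 : r * r = 1
      · rcases hD.rot_sq hrK h2 with h' | h'
        · simp [h']
        · rw [h', hz]
      have hsq : x * (r * r) * x⁻¹ = r * r := ih _ (mul_mem hr hr) (mul_mem hrK hrK) (by
        rw [← pow_two, ← pow_mul, ← pow_succ']; exact h)
      set ρ := x * r * x⁻¹ with hρ
      have hρK : ρ ∈ Subgroup.zpowers σ := hrot r hr hrK h2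
      have hcomm : r⁻¹ * ρ = ρ * r⁻¹ := by
        obtain ⟨i, hi⟩ := inv_mem hrK
        obtain ⟨j, hj⟩ := hρK
        rw [← hi, ← hj]
        exact ((Commute.refl σ).zpow_zpow i j).eq
      have hw2 : r⁻¹ * ρ * (r⁻¹ * ρ) = 1 := by
        calc r⁻¹ * ρ * (r⁻¹ * ρ) = r⁻¹ * ρ * (ρ * r⁻¹) := by rw [hcomm]
          _ = r⁻¹ * (x * (r * r) * x⁻¹) * r⁻¹ := by rw [hρ]; group
          _ = 1 := by rw [hsq]; group
      rcases hD.rot_sq (mul_mem (inv_mem hrK) hρK) hw2 with h' | h'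
      · exact (inv_mul_eq_one.1 h').symm
      have hρr : x * r * x⁻¹ = r * σ ^ M₀ := by rw [← h', mul_inv_cancel_left]
      have hx2 : x * x * r * (x * x)⁻¹ = r := by
        calc x * x * r * (x * x)⁻¹ = x * (x * r * x⁻¹) * x⁻¹ := by group
          _ = x * (r * σ ^ M₀) * x⁻¹ := by rw [hρr]
          _ = (x * r * x⁻¹) * (x * σ ^ M₀ * x⁻¹) := by group
          _ = r := by rw [hz, hρr, mul_assoc, hD.z_sq, mul_one]
      obtain ⟨k, hk⟩ := hodd
      have hc1 : Commute ((x * x) ^ k) r :=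
        (show Commute (x * x) r from mul_inv_eq_iff_eq_mul.1 hx2).pow_left k
      have hxk : x = ((x * x) ^ k)⁻¹ := by
        refine eq_inv_of_mul_eq_one_left ?_
        rw [← pow_two, ← pow_mul, ← pow_succ', ← hk, pow_orderOf_eq_one]
      rw [mul_inv_eq_iff_eq_mul]
      calc x * r = ((x * x) ^ k)⁻¹ * r := by rw [← hxk]
        _ = r * ((x * x) ^ k)⁻¹ := hc1.inv_left.eq
        _ = r * x := by rw [← hxk]
  have hfixK : ∀ r ∈ Q, r ∈ Subgroup.zpowers σ → x * r * x⁻¹ = r := fun r hr hrK =>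
    hfix a r hr hrK (by
      obtain ⟨k, rfl⟩ := hrK
      rw [← zpow_natCast, ← zpow_mul, mul_comm, zpow_mul, zpow_natCast, ← ha, pow_orderOf_eq_one,
        one_zpow])
  by_cases hqK : q ∈ Subgroup.zpowers σ
  · exact hfixK q hq hqK
  have htK : x * q * x⁻¹ ∉ Subgroup.zpowers σ := fun h => by
    have h1 := hfixK _ (hx q hq) h
    have h2 : x * q * x⁻¹ = q := (MulAut.conj x).injective h1
    exact hqK (by rwa [h2] at h)
  set ρ := q * (x * q * x⁻¹) with hρdef
  have hρK : ρ ∈ Subgroup.zpowers σ := hD.refl_mul (hQ hq) hqK (hQ (hx q hq)) htK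
  have hρf : x * ρ * x⁻¹ = ρ := hfixK _ (mul_mem hq (hx q hq)) hρK
  have ht : x * q * x⁻¹ = q * ρ := by rw [hρdef, ← mul_assoc, hD.refl_sq (hQ hq) hqK, one_mul]
  have hρx : ∀ k : ℕ, x ^ k * q * (x ^ k)⁻¹ = q * ρ ^ k := by
    intro k
    induction k with
    | zero => simp
    | succ k ih =>
      have hρk : x * ρ ^ k * x⁻¹ = ρ ^ k := by rw [← conj_pow, hρf]
      calc x ^ (k + 1) * q * (x ^ (k + 1))⁻¹ = x * (x ^ k * q * (x ^ k)⁻¹) * x⁻¹ := by
            rw [pow_succ']; group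
        _ = (x * q * x⁻¹) * (x * ρ ^ k * x⁻¹) := by rw [ih]; group
        _ = q * ρ ^ (k + 1) := by rw [hρk, ht, mul_assoc, ← pow_succ']
  have h1 : ρ ^ orderOf x = 1 := by
    have := hρx (orderOf x)
    rw [pow_orderOf_eq_one, one_mul, inv_one, mul_one] at this
    exact mul_eq_left.1 this.symm
  have h2 : ρ ^ 2 ^ a = 1 := by
    obtain ⟨k, hk⟩ := hρK
    rw [← hk]
    show (σ ^ k) ^ 2 ^ a = 1
    rw [← zpow_natCast, ← zpow_mul, mul_comm, zpow_mul, zpow_natCast, ← ha, pow_orderOf_eq_one,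
      one_zpow]
  have hg := pow_gcd_eq_one.2 ⟨h1, h2⟩
  rw [show Nat.gcd (orderOf x) (2 ^ a) = 1 from
    ((Nat.coprime_two_right.2 hodd).pow_right a), pow_one] at hg
  rw [ht, hg, mul_one]

end DiData

end Cfsg.Agent.DihedralDefect
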