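import Cfsg.Agent.Lib.DihedralDefect.Local
import Cfsg.Agent.Lib.DihedralDefect.Dihedral

/-!
# The block at the central involution of a dihedral defect group is nilpotent
-/

set_option autoImplicit false
set_option linter.unusedSectionVars false

namespace Cfsg.Agent.DihedralDefect

open Cfsg Blocks
open Cfsg.Agent.BrauerPairs (blk blkG IsMax conjPair stabOf hasBlocks isBlockIdem_blkG)
open Cfsg.Agent.Blocks.NilRank
open scoped Classical

universe u

variable {G : Type u} [Group G] [Fintype G] {M : Ideal AlgInt} [M.IsMaximal]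
  [Fact (Nat.Prime 2)] [CharP (AlgInt ⧸ M) 2] {B : Set (IrrCharacter G)} {P : Subgroup G}
  {e : MonoidAlgebra (AlgInt ⧸ M) G} {σ τ : G} {M₀ : ℕ}

theorem isNilpotentBlock_central (hB : IsPBlock M B) (ha : IsMax 2 (blkG M B) (P, e))
    (hD : DiData P σ τ M₀) :
    IsNilpotentBlock 2 M (blkSet M (Subgroup.centralizer ({σ ^ M₀} : Set G))
      (eU 2 P e (σ ^ M₀))) := by
  have hP'D := isDefectGroup_subgroupOf hB ha hD.z_mem fun v hv => hD.z_comm hv
  have hbz := (blkSet_spec (isBlockIdem_eU ha.1.1 hD.z_mem)).1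
  set H := Subgroup.centralizer ({σ ^ M₀} : Set G) with hH
  set bz := blkSet M H (eU 2 P e (σ ^ M₀))
  obtain ⟨e', -, hmax⟩ := BrauerPairs.exists_isMax_of_isDefectGroup hbz hP'D
  refine (BrauerPairs.isNilpotentBlock_iff hbz).2 fun Q f hQf x hx hreg => ?_
  obtain ⟨h, hh⟩ := BrauerPairs.exists_conj_ple (fun L => hasBlocks M L)
    (isBlockIdem_blkG hbz) hmax hQf
  have hle := BrauerPairs.PLE.le hh
  refine Subgroup.mem_centralizer_iff.2 fun q hq => ?_
  -- move to the conjugate inside `P`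
  let Q₁ : Subgroup G := (Q.map (MulAut.conj h).toMonoidHom).map H.subtype
  have hQ₁ : Q₁ ≤ P := by
    rintro _ ⟨y, hy, rfl⟩
    exact Subgroup.mem_subgroupOf.1 (hle hy)
  let y : H := h * x * h⁻¹
  have hodd : Odd (orderOf (y : G)) := by
    rw [Subgroup.orderOf_coe, show y = MulAut.conj h x from rfl, MulEquiv.orderOf_eq]
    exact Nat.odd_iff.2 (Nat.two_dvd_ne_zero.1 hreg)
  have hyz : (y : G) * σ ^ M₀ * (y : G)⁻¹ = σ ^ M₀ := by
    rw [Subgroup.mem_centralizer_singleton_iff.1 y.2, mul_inv_cancel_right]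
  have hnorm : ∀ w ∈ Q₁, (y : G) * w * (y : G)⁻¹ ∈ Q₁ := by
    rintro _ ⟨_, ⟨w, hw, rfl⟩, rfl⟩
    refine ⟨MulAut.conj h (x * w * x⁻¹), ⟨x * w * x⁻¹,
      (Subgroup.mem_normalizer_iff.1 hx.1 w).1 hw, rfl⟩, ?_⟩
    simp only [y, MulAut.conj_apply, MulEquiv.coe_toMonoidHom, Subgroup.coe_subtype,
      Subgroup.coe_mul, Subgroup.coe_inv]
    group
  have hfix := hD.commute_of_normalizes hodd hQ₁ hyz hnorm
    (q := ((MulAut.conj h q : H) : G)) ⟨_, ⟨q, hq, rfl⟩, rfl⟩
  have hfix' : MulAut.conj h (x * q * x⁻¹) = MulAut.conj h q := by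
    refine Subtype.ext (Eq.trans ?_ hfix)
    simp only [y, MulAut.conj_apply, Subgroup.coe_mul, Subgroup.coe_inv]
    group
  exact (mul_inv_eq_iff_eq_mul.1 ((MulAut.conj h).injective hfix')).symm

end Cfsg.Agent.DihedralDefect
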