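import Mathlib.Analysis.Complex.Basic
import Mathlib.Tactic

/-!
# Integer vectors of the dihedral family

`X`, `Y` of squared length `3` and `w j` of squared length `2`, all with pairwise inner product `1`,
such that `Z = X + Y + 2 Σ ε j • w j` (`ε` a balanced sign) has no zero coordinate: then there are
`#w + 5` coordinates, four with `|Z| = 1` and the others with `|Z| = 2`, unless there are two `w`'s
and five coordinates as in `Spur`.
-/

set_option autoImplicit false

namespace Cfsg.Agent.DihedralDefect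

open Finset

variable {ι : Type*} [Fintype ι] [DecidableEq ι]

/-- The inner product of integer vectors. -/
def dot (u v : ι → ℤ) : ℤ := ∑ x, u x * v x

theorem dot_comm (u v : ι → ℤ) : dot u v = dot v u := by simp only [dot, mul_comm]

theorem entry_cases {u : ι → ℤ} (h : dot u u ≤ 3) (x : ι) : u x = 0 ∨ u x = 1 ∨ u x = -1 := by
  have h1 := Finset.single_le_sum (f := fun y => u y * u y) (fun y _ => mul_self_nonneg (u y))
    (Finset.mem_univ x)
  have : u x * u x ≤ 3 := h1.trans h
  have h2 : u x ≤ 1 := by nlinarith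
  have h3 : -1 ≤ u x := by nlinarith
  omega

theorem sq_eq_one {u : ι → ℤ} (h : dot u u ≤ 3) {x : ι} (hx : u x ≠ 0) : u x * u x = 1 := by
  rcases entry_cases h x with e | e | e
  · exact absurd e hx
  all_goals rw [e]; norm_num

/-- The nonzero coordinates. -/
def nz (u : ι → ℤ) : Finset ι := univ.filter fun x => u x ≠ 0

theorem mem_nz {u : ι → ℤ} {x : ι} : x ∈ nz u ↔ u x ≠ 0 := by simp [nz]

theorem card_nz {u : ι → ℤ} (h : dot u u ≤ 3) : ((nz u).card : ℤ) = dot u u := by
  rw [dot, Finset.card_eq_sum_ones, nz, Finset.sum_filter]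
  push_cast
  refine Finset.sum_congr rfl fun x _ => ?_
  split_ifs with hx
  · exact (sq_eq_one h hx).symm
  · simp [not_not.1 hx]

theorem dot_eq_sum_nz (u v : ι → ℤ) : dot u v = ∑ x ∈ nz u, u x * v x := by
  rw [dot]
  exact (Finset.sum_subset (Finset.subset_univ _) fun x _ hx => by
    simp [not_not.1 (mt mem_nz.2 hx)]).symm

theorem exists_pair {w : ι → ℤ} (h : dot w w = 2) {c : ι} (hc : w c ≠ 0) :
    ∃ o, o ≠ c ∧ w o ≠ 0 ∧ nz w = {c, o} := by
  have h2 : (nz w).card = 2 := by exact_mod_cast (card_nz (u := w) (by omega)).trans h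
  obtain ⟨a, b, hab, e⟩ := Finset.card_eq_two.1 h2
  have hcm : c ∈ nz w := mem_nz.2 hc
  rw [e] at hcm
  rcases Finset.mem_insert.1 hcm with rfl | hcb
  · exact ⟨b, hab.symm, mem_nz.1 (by rw [e]; simp), e⟩
  · obtain rfl := Finset.mem_singleton.1 hcb
    exact ⟨a, hab, mem_nz.1 (by rw [e]; simp), by rw [e, Finset.pair_comm]⟩

theorem dot_pair {w v : ι → ℤ} {c o : ι} (hco : o ≠ c) (e : nz w = {c, o}) :
    dot w v = w c * v c + w o * v o := by
  rw [dot_eq_sum_nz, e, Finset.sum_pair hco.symm]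

theorem eq_of_dot {w v : ι → ℤ} {c o : ι} (hw : dot w w ≤ 3) (hv : dot v v ≤ 3) (hco : o ≠ c)
    (e : nz w = {c, o}) (h1 : dot w v = 1) : (v c = w c ∧ v o = 0) ∨ (v o = w o ∧ v c = 0) := by
  rw [dot_pair hco e] at h1
  have hwc : w c ≠ 0 := mem_nz.1 (by rw [e]; simp)
  have hwo : w o ≠ 0 := mem_nz.1 (by rw [e]; simp)
  rcases entry_cases hw c with a | a | a <;> rcases entry_cases hw o with b | b | b <;>
    rcases entry_cases hv c with a' | a' | a' <;> rcases entry_cases hv o with b' | b' | b' <;>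
    simp_all

variable {J : Type*} [Fintype J] [DecidableEq J]

/-- All the short vectors share one coordinate. -/
theorem exists_centre (w : J → ι → ℤ) (hw : ∀ j, dot (w j) (w j) = 2)
    (hww : ∀ j l, j ≠ l → dot (w j) (w l) = 1) (hJ : 2 ≤ Fintype.card J)
    (hJ3 : Fintype.card J ≠ 3) :
    ∃ c s, s ≠ 0 ∧ ∀ j, w j c = s := by
  obtain ⟨a, b, hab⟩ := Fintype.exists_pair_of_one_lt_card (show 1 < Fintype.card J by omega)
  obtain ⟨x, hx⟩ : ∃ x, w a x ≠ 0 := by
    by_contra h
    push Not at h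
    have := hw a
    simp [dot, h] at this
  obtain ⟨y, hxy, hy, e⟩ := exists_pair (hw a) hx
  have h3 : ∀ j, dot (w j) (w j) ≤ 3 := fun j => (hw j).le.trans (by norm_num)
  have key : ∀ c o, o ≠ c → nz (w a) = {c, o} → w b c = w a c → w b o = 0 →
      ∃ c s, s ≠ 0 ∧ ∀ j, w j c = s := by
    intro c o hco e hbc hbo
    have hac : w a c ≠ 0 := mem_nz.1 (by rw [e]; simp)
    have hao : w a o ≠ 0 := mem_nz.1 (by rw [e]; simp)
    obtain ⟨q, hqc, hbq, eb⟩ := exists_pair (hw b) (hbc ▸ hac)
    have hqo : q ≠ o := fun h => hbq (h ▸ hbo)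
    refine ⟨c, w a c, hac, fun l => ?_⟩
    by_contra hl
    have hla : a ≠ l := fun h => hl (by rw [h])
    have hlb : b ≠ l := fun h => hl (by rw [← h, hbc])
    obtain ⟨hlo, hlc⟩ := (eq_of_dot (h3 a) (h3 l) hco e (hww a l hla)).resolve_left fun h => hl h.1
    obtain ⟨hlq, -⟩ := (eq_of_dot (h3 b) (h3 l) hqc eb (hww b l hlb)).resolve_left
      fun h => hl (h.1.trans hbc)
    obtain ⟨q', hq'o, -, el⟩ := exists_pair (hw l) (hlo ▸ hao)
    have hql : q ∈ nz (w l) := mem_nz.2 (hlq ▸ hbq)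
    rw [el, Finset.mem_insert, Finset.mem_singleton] at hql
    have hqq : q' = q := (hql.resolve_left hqo).symm
    subst q'
    obtain ⟨m, hma, hmb, hml⟩ : ∃ m, m ≠ a ∧ m ≠ b ∧ m ≠ l := by
      by_contra hall
      push Not at hall
      have h1 : Fintype.card J ≤ ({a, b, l} : Finset J).card :=
        Finset.card_le_card (fun m _ => by
          simp only [Finset.mem_insert, Finset.mem_singleton]
          by_cases h1 : m = a
          · exact Or.inl h1
          by_cases h2 : m = b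
          · exact Or.inr (Or.inl h2)
          exact Or.inr (Or.inr (hall m h1 h2)))
      have h2 : ({a, b, l} : Finset J).card = 3 :=
        Finset.card_eq_three.2 ⟨a, b, l, hab, hla, hlb, rfl⟩
      have h4 : ({a, b, l} : Finset J).card ≤ Fintype.card J := Finset.card_le_univ _
      omega
    have h1 := hww l m hml.symm
    rw [dot_pair hq'o el] at h1
    have so : w a o * w a o = 1 := sq_eq_one (h3 a) hao
    have sq' : w b q * w b q = 1 := sq_eq_one (h3 b) hbq
    rcases eq_of_dot (h3 a) (h3 m) hco e (hww a m hma.symm) with ⟨e1, e2⟩ | ⟨e1, e2⟩ <;>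
      rcases eq_of_dot (h3 b) (h3 m) hqc eb (hww b m hmb.symm) with ⟨e3, e4⟩ | ⟨e3, e4⟩
    · rw [e2, e4] at h1; simp at h1
    · rw [e1] at e4; exact hac e4
    · rw [e2] at e3; exact hac (hbc ▸ e3.symm)
    · rw [e1, e3, hlo, hlq] at h1; omega
  rcases eq_of_dot (h3 a) (h3 b) hxy e (hww a b hab) with ⟨e1, e2⟩ | ⟨e1, e2⟩
  · exact key x y hxy e e1 e2
  · exact key y x hxy.symm (e.trans (Finset.pair_comm x y)) e1 e2

/-- A vector of squared length `3` meeting each `w j` once either has the centre or the other ends. -/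
theorem centre_or_ends (w : J → ι → ℤ) (hw : ∀ j, dot (w j) (w j) = 2) {X : ι → ℤ}
    (hX : dot X X = 3) (hXw : ∀ j, dot X (w j) = 1) {c : ι} {o : J → ι} {s : ℤ}
    (hco : ∀ j, o j ≠ c) (he : ∀ j, nz (w j) = {c, o j}) (hs : ∀ j, w j c = s) :
    (∀ j : J, X c = s ∧ X (o j) = 0) ∨ (∀ j : J, X c = 0 ∧ X (o j) = w j (o j)) := by
  have h3 : ∀ j, dot (w j) (w j) ≤ 3 := fun j => (hw j).le.trans (by norm_num)
  have h := fun j => eq_of_dot (h3 j) hX.le (hco j) (he j) (by rw [dot_comm]; exact hXw j)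
  by_cases hc : X c = 0
  · refine Or.inr fun j => ⟨hc, ?_⟩
    rcases h j with ⟨e1, -⟩ | ⟨e1, -⟩
    · exact absurd (e1.symm.trans hc) (mem_nz.1 (by rw [he j]; simp))
    · exact e1
  · refine Or.inl fun j => ?_
    rcases h j with ⟨e1, e2⟩ | ⟨-, e2⟩
    · exact ⟨e1.trans (hs j), e2⟩
    · exact absurd e2 hc

/-- The conclusion. -/
def Shape (Z : ι → ℤ) (n : ℕ) : Prop :=
  Fintype.card ι = n + 5 ∧ (univ.filter fun x => Z x * Z x = 1).card = 4 ∧
    ∀ x, Z x * Z x = 1 ∨ Z x * Z x = 4

/-- The standard configuration. -/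
theorem shape_of_centre (w : J → ι → ℤ) (ε : J → ℤ) (hε : ∀ j, ε j * ε j = 1) (hε0 : ∑ j, ε j = 0)
    (hw : ∀ j, dot (w j) (w j) = 2) (hww : ∀ j l, j ≠ l → dot (w j) (w l) = 1) {X Y : ι → ℤ}
    (hX : dot X X = 3) (hY : dot Y Y = 3) (hXY : dot X Y = 1)
    (hZ : ∀ x, X x + Y x + 2 * ∑ j, ε j * w j x ≠ 0) {c : ι} {o : J → ι} {s : ℤ}
    (hco : ∀ j, o j ≠ c) (he : ∀ j, nz (w j) = {c, o j}) (hs : ∀ j, w j c = s) (hsq : s * s = 1)
    (hXc : X c = s) (hYc : Y c = s) (hXo : ∀ j, X (o j) = 0) (hYo : ∀ j, Y (o j) = 0) :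
    Shape (fun x => X x + Y x + 2 * ∑ j, ε j * w j x) (Fintype.card J) := by
  set Z := fun x => X x + Y x + 2 * ∑ j, ε j * w j x with hZdef
  have h3 : ∀ j, dot (w j) (w j) ≤ 3 := fun j => (hw j).le.trans (by norm_num)
  have hinj : Function.Injective o := by
    intro a b hab
    by_contra hne
    have h1 := hww a b hne
    rw [dot_pair (hco a) (he a), hs a, hs b, hsq] at h1
    have ha : w a (o a) ≠ 0 := mem_nz.1 (by rw [he a]; simp)
    have hb : w b (o a) ≠ 0 := mem_nz.1 (by rw [he b, hab]; simp)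
    rcases entry_cases (h3 a) (o a) with e | e | e <;> rcases entry_cases (h3 b) (o a) with f | f | f <;>
      simp_all
  have hwoff : ∀ x, x ≠ c → (∀ j, x ≠ o j) → ∑ j, ε j * w j x = 0 := fun x hx hxo =>
    Finset.sum_eq_zero fun j _ => by
      have : w j x = 0 := by
        by_contra h
        have h' := mem_nz.2 h
        rw [he j] at h'
        simp_all
      rw [this, mul_zero]
  have hZc : Z c = 2 * s := by
    simp only [hZdef, hs, hXc, hYc, ← Finset.sum_mul, hε0]
    ring
  have hZo : ∀ j, Z (o j) = 2 * (ε j * w j (o j)) := by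
    intro j
    simp only [hZdef, hXo, hYo]
    rw [Finset.sum_eq_single_of_mem j (Finset.mem_univ _) fun l _ hl => by
      have : w l (o j) = 0 := by
        by_contra h
        have h' := mem_nz.2 h
        rw [he l] at h'
        rcases Finset.mem_insert.1 h' with h1 | h1
        · exact hco j h1
        · exact hl (hinj (Finset.mem_singleton.1 h1)).symm
      rw [this, mul_zero]]
    ring
  -- the other coordinates
  have hother : ∀ x, x ≠ c → (∀ j, x ≠ o j) →
      X x * Y x = 0 ∧ Z x * Z x = 1 ∧ Z x * Z x = X x * X x + Y x * Y x := by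
    have hnn : ∀ x, x ≠ c → 0 ≤ X x * Y x := by
      intro x hx
      rcases em (∃ j, x = o j) with ⟨j, rfl⟩ | hxo
      · rw [hXo, zero_mul]
      push Not at hxo
      have hz := hZ x
      rw [hwoff x hx hxo] at hz
      rcases entry_cases hX.le x with e | e | e <;> rcases entry_cases hY.le x with f | f | f <;>
        simp_all
    have hsumXY : ∑ x ∈ univ.erase c, X x * Y x = 0 := by
      have h := hXY
      rw [dot, ← Finset.add_sum_erase _ _ (Finset.mem_univ c), hXc, hYc, hsq] at h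
      linarith
    intro x hx hxo
    have h0 := (Finset.sum_eq_zero_iff_of_nonneg fun y hy => hnn y (Finset.mem_erase.1 hy).1).1
      hsumXY x (Finset.mem_erase.2 ⟨hx, Finset.mem_univ _⟩)
    have hz := hZ x
    simp only [hZdef]
    rw [hwoff x hx hxo] at hz ⊢
    rcases entry_cases hX.le x with e | e | e <;> rcases entry_cases hY.le x with f | f | f <;>
      simp_all
  have hcase : ∀ x, Z x * Z x = 1 ∨ Z x * Z x = 4 := by
    intro x
    by_cases hx : x = c
    · exact Or.inr (by rw [hx, hZc]; linear_combination 4 * hsq)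
    rcases em (∃ j, x = o j) with ⟨j, rfl⟩ | hxo
    · refine Or.inr ?_
      rw [hZo]
      linear_combination (4 * (w j (o j) * w j (o j))) * hε j +
        4 * sq_eq_one (h3 j) (mem_nz.1 (show o j ∈ nz (w j) by rw [he j]; simp))
    · push Not at hxo
      exact Or.inl (hother x hx hxo).2.1
  set O : Finset ι := insert c (univ.image o) with hOdef
  have hcO : c ∉ univ.image o := by
    rw [Finset.mem_image]
    rintro ⟨j, -, hj⟩
    exact hco j hj
  have hOcard : O.card = Fintype.card J + 1 := by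
    rw [hOdef, Finset.card_insert_of_notMem hcO, Finset.card_image_of_injective _ hinj,
      Finset.card_univ]
  have hmemO : ∀ x, x ∉ O → x ≠ c ∧ ∀ j, x ≠ o j := fun x hx =>
    ⟨fun h => hx (by simp [hOdef, h]), fun j h => hx (by simp [hOdef, h])⟩
  have hsq1 : (univ.filter fun x => Z x * Z x = 1) = Oᶜ := by
    ext x
    rw [Finset.mem_filter, Finset.mem_compl]
    refine ⟨fun ⟨_, h⟩ hx => ?_, fun hx => ⟨Finset.mem_univ _, (hother x (hmemO x hx).1 (hmemO x hx).2).2.1⟩⟩
    rcases Finset.mem_insert.1 hx with rfl | hx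
    · rw [hZc] at h; nlinarith
    · obtain ⟨j, -, rfl⟩ := Finset.mem_image.1 hx
      have := hε j
      have := sq_eq_one (h3 j) (mem_nz.1 (show o j ∈ nz (w j) by rw [he j]; simp))
      rw [hZo] at h
      nlinarith
  have hrest : (Oᶜ.card : ℤ) = 4 := by
    have hsplit : ∀ U : ι → ℤ, U c = s → (∀ j, U (o j) = 0) → dot U U = 3 →
        ∑ x ∈ Oᶜ, U x * U x = 2 := by
      intro U hUc hUo hU
      have h := hU
      rw [dot, ← Finset.sum_add_sum_compl O, hOdef, Finset.sum_insert hcO,
        Finset.sum_eq_zero fun x hx => by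
          obtain ⟨j, -, rfl⟩ := Finset.mem_image.1 hx
          rw [hUo, mul_zero], hUc, hsq] at h
      rw [hOdef]
      linarith
    have e1 : ∑ x ∈ Oᶜ, Z x * Z x = ∑ x ∈ Oᶜ, (X x * X x + Y x * Y x) :=
      Finset.sum_congr rfl fun x hx =>
        (hother x (hmemO x (Finset.mem_compl.1 hx)).1 (hmemO x (Finset.mem_compl.1 hx)).2).2.2
    rw [Finset.sum_congr rfl fun x hx =>
      (hother x (hmemO x (Finset.mem_compl.1 hx)).1 (hmemO x (Finset.mem_compl.1 hx)).2).2.1,
      Finset.sum_add_distrib, hsplit X hXc hXo hX, hsplit Y hYc hYo hY] at e1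
    simpa using e1
  refine ⟨?_, ?_, hcase⟩
  · have h1 := Finset.card_add_card_compl O
    omega
  · rw [hsq1]
    exact_mod_cast hrest

/-- The exceptional configuration with two `w`'s: `X` through the centre, `Y` through the ends. -/
def Spur {J : Type*} (w : J → ι → ℤ) (ε : J → ℤ) (X Y : ι → ℤ) : Prop :=
  ∃ (j l : J) (c o o' p q : ι) (s α β π ρ : ℤ),
    (ε j = 1 ∧ ε l = -1 ∧ ∀ m, m = j ∨ m = l) ∧
    (∀ F : ι → ℂ, ∑ x, F x = F c + F o + F o' + F p + F q) ∧
    (s * s = 1 ∧ α * α = 1 ∧ β * β = 1 ∧ π * π = 1 ∧ ρ * ρ = 1) ∧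
    (X c = s ∧ X o = 0 ∧ X o' = 0 ∧ X p = π ∧ X q = ρ) ∧
    (Y c = 0 ∧ Y o = α ∧ Y o' = β ∧ Y p = π ∧ Y q = 0) ∧
    (w j c = s ∧ w j o = α ∧ w j o' = 0 ∧ w j p = 0 ∧ w j q = 0) ∧
    (w l c = s ∧ w l o = 0 ∧ w l o' = β ∧ w l p = 0 ∧ w l q = 0)

/-- `X` through the centre and `Y` through the ends give the exceptional configuration. -/
theorem spur_of_mixed (w : J → ι → ℤ) (ε : J → ℤ) (hε : ∀ j, ε j * ε j = 1) (hε0 : ∑ j, ε j = 0)
    (hJ : Fintype.card J = 2) (hw : ∀ j, dot (w j) (w j) = 2) {X Y : ι → ℤ}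
    (hX : dot X X = 3) (hY : dot Y Y = 3) (hXY : dot X Y = 1) {c : ι} {o : J → ι} {s : ℤ}
    (hco : ∀ j, o j ≠ c) (he : ∀ j, nz (w j) = {c, o j}) (hs : ∀ j, w j c = s)
    (hoo : ∀ j l, j ≠ l → o j ≠ o l) (hxc : X c = s) (hsq : s * s = 1)
    (hxo : ∀ j, X (o j) = 0) (hyc : Y c = 0) (hyo : ∀ j, Y (o j) = w j (o j))
    (hZ : ∀ x, X x + Y x + 2 * ∑ j, ε j * w j x ≠ 0) : Spur w ε X Y := by
  classical
  obtain ⟨j, l, hjl, hu⟩ : ∃ j l : J, j ≠ l ∧ (univ : Finset J) = {j, l} :=
    Finset.card_eq_two.1 (Finset.card_univ.trans hJ)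
  have hsum : ε j + ε l = 0 := by rw [← hε0, hu, Finset.sum_pair hjl]
  obtain ⟨a, b, hne, hu', hεa, hεb⟩ : ∃ a b : J, a ≠ b ∧ (univ : Finset J) = {a, b} ∧
      ε a = 1 ∧ ε b = -1 := by
    rcases Int.eq_one_or_neg_one_of_mul_eq_one (hε j) with h | h
    · exact ⟨j, l, hjl, hu, h, by omega⟩
    · exact ⟨l, j, hjl.symm, hu.trans (Finset.pair_comm _ _), by omega, h⟩
  have hα : ∀ m, w m (o m) * w m (o m) = 1 := fun m =>
    sq_eq_one ((hw m).le.trans (by norm_num)) (mem_nz.1 (by rw [he m]; simp))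
  have hα0 : ∀ m, w m (o m) ≠ 0 := fun m => mem_nz.1 (by rw [he m]; simp)
  have hw0 : ∀ m x, x ≠ c → x ≠ o m → w m x = 0 := fun m x h1 h2 => by
    by_contra h
    have := mem_nz.2 h
    rw [he m] at this
    simp [h1, h2] at this
  have hsubY : ({o a, o b} : Finset ι) ⊆ nz Y := by
    intro x hx
    simp only [Finset.mem_insert, Finset.mem_singleton] at hx
    rcases hx with rfl | rfl <;> rw [mem_nz, hyo] <;> exact hα0 _
  have hcY : (nz Y).card = 3 := by exact_mod_cast (card_nz hY.le).trans hY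
  obtain ⟨p, hp⟩ : ∃ p, nz Y \ {o a, o b} = {p} := Finset.card_eq_one.1 (by
    rw [Finset.card_sdiff_of_subset hsubY, hcY, Finset.card_pair (hoo a b hne)])
  have hpY : p ∈ nz Y \ {o a, o b} := hp ▸ Finset.mem_singleton_self p
  simp only [Finset.mem_sdiff, Finset.mem_insert, Finset.mem_singleton, not_or, mem_nz] at hpY
  obtain ⟨hp0, hpa, hpb⟩ := hpY
  have hYx : ∀ x, x ≠ o a → x ≠ o b → x ≠ p → Y x = 0 := fun x h1 h2 h3 => by
    by_contra h
    have : x ∈ nz Y \ {o a, o b} := by simp [mem_nz, h, h1, h2]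
    rw [hp, Finset.mem_singleton] at this
    exact h3 this
  have hpc : p ≠ c := fun h => hp0 (h ▸ hyc)
  have hXp : X p * Y p = 1 := by
    rw [← hXY, dot]
    refine (Finset.sum_eq_single (s := (univ : Finset ι)) (f := fun x => X x * Y x) p
      (fun x _ hx => ?_) (fun h => absurd (Finset.mem_univ p) h)).symm
    show X x * Y x = 0
    by_cases h1 : x = o a
    · rw [h1, hxo, zero_mul]
    by_cases h2 : x = o b
    · rw [h2, hxo, zero_mul]
    rw [hYx x h1 h2 hx, mul_zero]
  have hXp0 : X p ≠ 0 := fun h => by simp [h] at hXp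
  have hs0 : s ≠ 0 := fun h => by simp [h] at hsq
  have hsubX : ({c, p} : Finset ι) ⊆ nz X := by
    intro x hx
    simp only [Finset.mem_insert, Finset.mem_singleton] at hx
    rcases hx with rfl | rfl
    · rw [mem_nz, hxc]; exact hs0
    · exact mem_nz.2 hXp0
  have hcX : (nz X).card = 3 := by exact_mod_cast (card_nz hX.le).trans hX
  obtain ⟨q, hq⟩ : ∃ q, nz X \ {c, p} = {q} := Finset.card_eq_one.1 (by
    rw [Finset.card_sdiff_of_subset hsubX, hcX, Finset.card_pair hpc.symm])
  have hqX : q ∈ nz X \ {c, p} := hq ▸ Finset.mem_singleton_self q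
  simp only [Finset.mem_sdiff, Finset.mem_insert, Finset.mem_singleton, not_or, mem_nz] at hqX
  obtain ⟨hq0, hqc, hqp⟩ := hqX
  have hXx : ∀ x, x ≠ c → x ≠ p → x ≠ q → X x = 0 := fun x h1 h2 h3 => by
    by_contra h
    have : x ∈ nz X \ {c, p} := by simp [mem_nz, h, h1, h2]
    rw [hq, Finset.mem_singleton] at this
    exact h3 this
  have hqa : q ≠ o a := fun h => hq0 (h ▸ hxo a)
  have hqb : q ≠ o b := fun h => hq0 (h ▸ hxo b)
  have hall : ∀ x, x = c ∨ x = o a ∨ x = o b ∨ x = p ∨ x = q := by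
    intro x
    by_contra h
    simp only [not_or] at h
    obtain ⟨h1, h2, h3, h4, h5⟩ := h
    refine hZ x ?_
    rw [hXx x h1 h4 h5, hYx x h2 h3 h4, hu', Finset.sum_pair hne, hw0 a x h1 h2, hw0 b x h1 h3]
    ring
  have hJa : ∀ m, m = a ∨ m = b := fun m => by
    have := Finset.mem_univ m
    rw [hu'] at this
    simpa using this
  refine ⟨a, b, c, o a, o b, p, q, s, w a (o a), w b (o b), X p, X q, ⟨hεa, hεb, hJa⟩,
    fun F => ?_, ⟨hsq, hα a, hα b, sq_eq_one hX.le hXp0, sq_eq_one hX.le hq0⟩,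
    ⟨hxc, hxo a, hxo b, rfl, rfl⟩, ⟨hyc, hyo a, hyo b, ?_, hYx q hqa hqb hqp⟩,
    ⟨hs a, rfl, hw0 a _ (hco b) (hoo b a hne.symm), hw0 a p hpc hpa, hw0 a q hqc hqa⟩,
    ⟨hs b, hw0 b _ (hco a) (hoo a b hne), rfl, hw0 b p hpc hpb, hw0 b q hqc hqb⟩⟩
  · rw [show (univ : Finset ι) = {c, o a, o b, p, q} from
      (Finset.eq_univ_of_forall fun x => by simpa using hall x).symm,
      Finset.sum_insert (by simp [(hco a).symm, (hco b).symm, hpc.symm, Ne.symm hqc]),
      Finset.sum_insert (by simp [hoo a b hne, Ne.symm hpa, hqa.symm]),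
      Finset.sum_insert (by simp [Ne.symm hpb, hqb.symm]),
      Finset.sum_pair (Ne.symm hqp)]
    ring
  · calc Y p = X p * X p * Y p := by rw [sq_eq_one hX.le hXp0, one_mul]
      _ = X p * (X p * Y p) := by ring
      _ = X p := by rw [hXp, mul_one]

/-- The configuration for at least two short vectors. -/
theorem shape_of_family (w : J → ι → ℤ) (ε : J → ℤ) (hε : ∀ j, ε j * ε j = 1) (hε0 : ∑ j, ε j = 0)
    (hJ : 2 ≤ Fintype.card J) (hJ3 : Fintype.card J ≠ 3)
    (hw : ∀ j, dot (w j) (w j) = 2) (hww : ∀ j l, j ≠ l → dot (w j) (w l) = 1) {X Y : ι → ℤ}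
    (hX : dot X X = 3) (hY : dot Y Y = 3) (hXY : dot X Y = 1) (hXw : ∀ j, dot X (w j) = 1)
    (hYw : ∀ j, dot Y (w j) = 1)
    (hZ : ∀ x, X x + Y x + 2 * ∑ j, ε j * w j x ≠ 0)
    (hspur : Fintype.card J = 2 → ¬ Spur w ε X Y ∧ ¬ Spur w ε Y X) :
    Shape (fun x => X x + Y x + 2 * ∑ j, ε j * w j x) (Fintype.card J) := by
  obtain ⟨c, s, hs0, hs⟩ := exists_centre w hw hww hJ hJ3
  have h3 : ∀ j, dot (w j) (w j) ≤ 3 := fun j => (hw j).le.trans (by norm_num)
  have hex : ∀ j, ∃ o, o ≠ c ∧ nz (w j) = {c, o} := fun j => by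
    obtain ⟨o, h1, -, h2⟩ := exists_pair (hw j) (show w j c ≠ 0 by rw [hs j]; exact hs0)
    exact ⟨o, h1, h2⟩
  choose o hco he using hex
  obtain ⟨a, b, hab⟩ := Fintype.exists_pair_of_one_lt_card (show 1 < Fintype.card J by omega)
  have hsq : s * s = 1 := hs a ▸ sq_eq_one (h3 a) (hs a ▸ hs0)
  have hne : ∀ j, w j (o j) ≠ 0 := fun j => mem_nz.1 (by rw [he j]; simp)
  have hoo : ∀ j l, j ≠ l → o j ≠ o l ∧ w l (o j) = 0 := by
    intro j l hjl
    have h1 := hww j l hjl
    rw [dot_pair (hco j) (he j), hs j, hs l, hsq] at h1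
    have h2 : w l (o j) = 0 :=
      (mul_eq_zero.1 (by linarith : w j (o j) * w l (o j) = 0)).resolve_left (hne j)
    exact ⟨fun h => hne l (h ▸ h2), h2⟩
  rcases centre_or_ends w hw hX hXw hco he hs with hx | hx <;>
    rcases centre_or_ends w hw hY hYw hco he hs with hy | hy
  · exact shape_of_centre w ε hε hε0 hw hww hX hY hXY hZ hco he hs hsq (hx a).1 (hy a).1
      (fun j => (hx j).2) fun j => (hy j).2
  rotate_left 2
  · -- both avoid the centre
    exfalso
    have hle : Fintype.card J ≤ 3 := by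
      have h1 : univ.image o ⊆ nz X := by
        intro x hx'
        obtain ⟨j, -, rfl⟩ := Finset.mem_image.1 hx'
        rw [mem_nz, (hx j).2]
        exact hne j
      have h2 := Finset.card_le_card h1
      rw [Finset.card_image_of_injective _ fun j l h => by_contra fun hjl => (hoo j l hjl).1 h,
        Finset.card_univ] at h2
      have h4 : ((nz X).card : ℤ) = 3 := (card_nz hX.le).trans hX
      omega
    have hJu : (univ : Finset J) = {a, b} :=
      (Finset.eq_of_subset_of_card_le (Finset.subset_univ _)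
        (by rw [Finset.card_univ, Finset.card_pair hab]; omega)).symm
    have hterm : ∀ j, X (o j) * Y (o j) = 1 := fun j => by
      rw [(hx j).2, (hy j).2]; exact sq_eq_one (h3 j) (hne j)
    have hS : ∑ x ∈ univ \ {o a, o b}, X x * Y x = -1 := by
      have h := hXY
      rw [dot, ← Finset.sum_sdiff (Finset.subset_univ ({o a, o b} : Finset ι)),
        Finset.sum_pair (hoo a b hab).1, hterm, hterm] at h
      linarith
    obtain ⟨x, hxm, hneg⟩ : ∃ x ∈ univ \ {o a, o b}, X x * Y x < 0 := by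
      by_contra h
      push Not at h
      have := Finset.sum_nonneg h
      omega
    simp only [Finset.mem_sdiff, Finset.mem_univ, true_and, Finset.mem_insert, Finset.mem_singleton,
      not_or] at hxm
    have hxc : x ≠ c := fun h => by rw [h, (hx a).1, zero_mul] at hneg; exact lt_irrefl 0 hneg
    have hw0 : ∀ j, w j x = 0 := by
      intro j
      have hj : j ∈ ({a, b} : Finset J) := hJu ▸ Finset.mem_univ j
      by_contra h
      have h' := mem_nz.2 h
      rw [he j] at h'
      simp only [Finset.mem_insert, Finset.mem_singleton] at h' hj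
      rcases h' with h' | h'
      · exact hxc h'
      · rcases hj with rfl | rfl
        · exact hxm.1 h'
        · exact hxm.2 h'
    refine hZ x ?_
    rw [Finset.sum_eq_zero fun j _ => by rw [hw0 j, mul_zero]]
    rcases entry_cases hX.le x with e | e | e <;> rcases entry_cases hY.le x with f | f | f <;>
      simp_all
  all_goals
    exfalso
    have hle : Fintype.card J ≤ 3 := by
      have h1 : ∀ U : ι → ℤ, dot U U = 3 → (∀ j, U c = 0 ∧ U (o j) = w j (o j)) → Fintype.card J ≤ 3 := by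
        intro U hU hu
        have h2 : univ.image o ⊆ nz U := fun x hx' => by
          obtain ⟨j, -, rfl⟩ := Finset.mem_image.1 hx'
          rw [mem_nz, (hu j).2]
          exact hne j
        have h3 := Finset.card_le_card h2
        rw [Finset.card_image_of_injective _ fun j l h => by_contra fun hjl => (hoo j l hjl).1 h,
          Finset.card_univ] at h3
        have h4 : ((nz U).card : ℤ) = 3 := (card_nz hU.le).trans hU
        omega
      first | exact h1 X hX hx | exact h1 Y hY hy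
    first
      | exact (hspur (by omega)).1 (spur_of_mixed w ε hε hε0 (by omega) hw hX hY hXY hco he hs
          (fun j l h => (hoo j l h).1) (hx a).1 hsq (fun j => (hx j).2) (hy a).1
          (fun j => (hy j).2) hZ)
      | exact (hspur (by omega)).2 (spur_of_mixed w ε hε hε0 (by omega) hw hY hX
          (by rw [dot_comm]; exact hXY) hco he hs
          (fun j l h => (hoo j l h).1) (hy a).1 hsq (fun j => (hy j).2) (hx a).1
          (fun j => (hx j).2) fun x => by rw [add_comm (Y x)]; exact hZ x)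

/-- The configuration without short vectors. -/
theorem shape_of_two {X Y : ι → ℤ} (hX : dot X X = 3) (hY : dot Y Y = 3) (hXY : dot X Y = 1)
    (hZ : ∀ x, X x + Y x ≠ 0) : Shape (fun x => X x + Y x) 0 := by
  have hnn : ∀ x, 0 ≤ X x * Y x := fun x => by
    have := hZ x
    rcases entry_cases hX.le x with e | e | e <;> rcases entry_cases hY.le x with f | f | f <;>
      simp_all
  obtain ⟨c, hc⟩ : ∃ c, X c * Y c ≠ 0 := by
    by_contra h
    push Not at h
    simp [dot, h] at hXY
  have hc1 : X c * Y c = 1 ∧ ∀ x ≠ c, X x * Y x = 0 := by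
    have h := hXY
    rw [dot, ← Finset.add_sum_erase _ _ (Finset.mem_univ c)] at h
    have h1 : 0 ≤ ∑ x ∈ univ.erase c, X x * Y x := Finset.sum_nonneg fun x _ => hnn x
    have h2 := hnn c
    have h3 : X c * Y c = 1 := by omega
    exact ⟨h3, fun x hx => (Finset.sum_eq_zero_iff_of_nonneg fun y _ => hnn y).1 (by omega) x
      (Finset.mem_erase.2 ⟨hx, Finset.mem_univ _⟩)⟩
  have hsq : ∀ x, x ≠ c → (X x + Y x) * (X x + Y x) = 1 := fun x hx => by
    have h0 := hc1.2 x hx
    have := hZ x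
    rcases entry_cases hX.le x with e | e | e <;> rcases entry_cases hY.le x with f | f | f <;>
      simp_all
  have hc4 : (X c + Y c) * (X c + Y c) = 4 := by
    have := hc1.1
    rcases entry_cases hX.le c with e | e | e <;> rcases entry_cases hY.le c with f | f | f <;>
      simp_all
  have htot : ∑ x, (X x + Y x) * (X x + Y x) = 8 := by
    have : ∀ x, (X x + Y x) * (X x + Y x) = X x * X x + Y x * Y x + 2 * (X x * Y x) := fun x => by ring
    simp only [this, Finset.sum_add_distrib, ← Finset.mul_sum]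
    simp only [dot] at hX hY hXY
    omega
  rw [← Finset.add_sum_erase _ _ (Finset.mem_univ c), hc4,
    Finset.sum_congr rfl fun x hx => hsq x (Finset.mem_erase.1 hx).1] at htot
  have h4 : (univ.erase c).card = 4 := by
    simp only [Finset.sum_const, nsmul_eq_mul, mul_one] at htot
    have : ((univ.erase c).card : ℤ) = 4 := by linarith
    exact_mod_cast this
  refine ⟨?_, ?_, fun x => ?_⟩
  · rw [← Finset.card_univ, ← Finset.insert_erase (Finset.mem_univ c),
      Finset.card_insert_of_notMem (by simp), h4]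
  · rw [← h4]
    congr 1
    ext x
    simp only [Finset.mem_filter, Finset.mem_univ, true_and, Finset.mem_erase, and_true]
    exact ⟨fun h hx => by rw [hx, hc4] at h; norm_num at h, hsq x⟩
  · by_cases hx : x = c
    · exact Or.inr (hx ▸ hc4)
    · exact Or.inl (hsq x hx)

end Cfsg.Agent.DihedralDefect
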