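import Cfsg.Agent.Lib.Blocks.NilpotentRank.Bijection
import Cfsg.Agent.Lib.BrauerPairs.Sub
import Cfsg.Agent.Lib.Watanabe.Rho
import Cfsg.Agent.Lib.Blocks.ContributionCongr

/-!
# Subsections inside the centralizer of a central element of the defect group

Let `(P, e)` be a maximal pair of `B`, `z` central in `P` and suppose that the block `b_z` of
`H = C(z)` below `(P, e)` is nilpotent. There are virtual characters `f χ` of `P` such that for
every `u ∈ P` with `C(u) ≤ H` the block at `u` has rank one and the normalized contribution of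
`(u, b_u)` to `χ`, `ψ` is `f χ u * conj (f ψ u)`.
-/

set_option autoImplicit false
set_option linter.unusedSectionVars false
set_option linter.style.haveILetI false

namespace Cfsg.Agent.DihedralDefect

open Cfsg Blocks MonoidAlgebra
open Cfsg.Agent.BrauerPairs (blk blkG IsBlockIdem br conjEl conjPair IsPairOf IsMax PLE IsPair Step
  hasBlocks isBlockIdem_blkG incl inclPair mapBlock regDot IsNilpotentPairs)
open Cfsg.Agent.Blocks.NilRank
open scoped Classical ComplexConjugate

universe u

variable {G : Type u} [Group G] [Fintype G] {M : Ideal AlgInt} [M.IsMaximal] {p : ℕ}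
  [hp : Fact p.Prime] [CharP (AlgInt ⧸ M) p]

/-- The normalized contributions `TT η η₀` of a nilpotent block are virtual characters of `P`. -/
theorem exists_int_classInner_TT {P : Subgroup G} {e : MonoidAlgebra (AlgInt ⧸ M) G}
    {B : Set (IrrCharacter G)} {χ₀ : IrrCharacter G} (hM : IsPModular p M)
    (hd : RankData M p B P e χ₀) {χ : IrrCharacter G} (hχ : χ ∈ B) (lam : IrrCharacter P) :
    ∃ z : ℤ, classInner (fun v : P => TT p P e χ.1 χ₀.1 v) lam.1 = z := by
  have hpM := hM.2.2
  have hmax := hd.isMax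
  have hPp : IsPGroup p P := hmax.1.1.1
  obtain ⟨D, hD⟩ := hPp.exists_card_eq
  let T : P → ℂ := fun v => TT p P e χ.1 χ₀.1 v
  have hlam : IsCharacter P lam.1 := Char.irr_isCharacter lam
  have hcen : ∀ v ∈ cenP P, Subgroup.centralizer ({v} : Set P) = ⊤ := fun v hv =>
    (centralizer_eq_top_iff v).2 fun w =>
      Subtype.ext (((centralizer_eq_top_iff (v : G)).1 (mem_cenP.1 hv) w).eq)
  have hR : MemLocalRing M ((∑ v : P, T v * conj (lam.1 v)) / (Nat.card P : ℂ)) := by
    refine hd.pairing χ hχ (fun v => conj (lam.1 v))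
      (IsTraceFun.of_character (Char.IsCharacter.conj hlam))
      (fun v => memLocalRing_char (Char.IsCharacter.conj hlam) v)
      ⟨fun v => conj (zScal lam.1 v), fun v hv w _ => ?_, fun v hv => ?_⟩
    · show conj (zScal lam.1 (v * w)) = conj (zScal lam.1 v) * conj (zScal lam.1 w)
      rw [zScal_mul (hcen v hv), map_mul]
    · show conj (lam.1 v) = conj (zScal lam.1 v) * conj (lam.1 1)
      rw [← map_mul]
      congr 1
      simpa using apply_zmul (hcen v hv) lam 1
  choose n μ _ hμ hμp using fun v : P => CharInt.exists_roots hlam v⁻¹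
  let f : ℕ → ℂ := fun t => ∑ v : P, Tof M p (Subgroup.centralizer ({(v : G)} : Set G))
    ((v : G) ^ t) (eU p P e v) χ.1 χ₀.1 * lam.1 (v⁻¹ ^ t)
  have hf1 : f 1 = ∑ v : P, T v * conj (lam.1 v) := Finset.sum_congr rfl fun v _ => by
    simp only [pow_one, T]
    rw [Char.IsCharacter.conj_apply hlam]
    rfl
  have hfinv : ∀ t, ¬ p ∣ t → f t = f 1 := fun t ht => by
    rw [hf1]
    calc f t = ∑ v : P, T (v ^ t) * conj (lam.1 (v ^ t)) := Finset.sum_congr rfl fun v _ => by
          rw [Char.IsCharacter.conj_apply hlam, ← inv_pow]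
          simp only [T, SubmonoidClass.coe_pow, TT_pow hmax.1.1 v.2 ht]
      _ = _ := sum_pow_comp hPp ht fun v : P => T v * conj (lam.1 v)
  have htw : IsTw (p ^ D * p) f := by
    rw [← hD]
    refine IsTw.sum fun v => IsTw.mul (isTw_Tof hpM hmax.1.1 v.2 χ χ₀) ?_
    refine IsTw.of_fintype (fun _ : Fin (n v) => (1 : ℤ)) (μ v) (fun i => ?_) fun t => ?_
    · obtain ⟨c, hc⟩ : orderOf (v⁻¹ : P) ∣ Nat.card P * p :=
        Dvd.dvd.mul_right (orderOf_dvd_natCard _) p
      show μ v i ^ (Nat.card P * p) = 1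
      rw [hc, pow_mul, hμ, one_pow]
    · show lam.1 (v⁻¹ ^ t) = _
      rw [hμp v t]
      simp
  obtain ⟨z, hz⟩ := IsTw.exists_int (k := D) hp.out htw hfinv
  rw [hf1] at hz
  rw [hz, Char.memLocalRing_intCast_div_iff hpM z Nat.card_pos.ne', hD,
    hp.out.factorization_pow, Finsupp.single_eq_same] at hR
  obtain ⟨w, rfl⟩ := hR
  refine ⟨w, ?_⟩
  rw [classInner, hz, hD]
  push_cast
  rw [← mul_assoc, inv_mul_cancel₀ (pow_ne_zero _ (Nat.cast_ne_zero.2 hp.out.ne_zero)), one_mul]

section Nested

variable {H : Subgroup G} {u : H}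

theorem map_centralizer_singleton (hC : Subgroup.centralizer ({(u : G)} : Set G) ≤ H) :
    (Subgroup.centralizer ({u} : Set H)).map H.subtype =
      Subgroup.centralizer ({(u : G)} : Set G) := by
  ext g
  constructor
  · rintro ⟨c, hc, rfl⟩
    exact Subgroup.mem_centralizer_singleton_iff.2
      (congrArg Subtype.val (Subgroup.mem_centralizer_singleton_iff.1 hc))
  · intro hg
    exact ⟨⟨g, hC hg⟩, Subgroup.mem_centralizer_singleton_iff.2
      (Subtype.ext (Subgroup.mem_centralizer_singleton_iff.1 hg)), rfl⟩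

/-- `C_G(u) ≃* C_H(u)` when `C_G(u) ≤ H`. -/
def cenIso (hC : Subgroup.centralizer ({(u : G)} : Set G) ≤ H) :
    Subgroup.centralizer ({(u : G)} : Set G) ≃* Subgroup.centralizer ({u} : Set H) where
  toFun c := ⟨⟨c, hC c.2⟩, Subgroup.mem_centralizer_singleton_iff.2
    (Subtype.ext (Subgroup.mem_centralizer_singleton_iff.1 c.2))⟩
  invFun c := ⟨((c : H) : G), Subgroup.mem_centralizer_singleton_iff.2
    (congrArg Subtype.val (Subgroup.mem_centralizer_singleton_iff.1 c.2))⟩
  left_inv _ := rfl
  right_inv _ := rfl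
  map_mul' _ _ := rfl

theorem blk_mapBlock_cenIso (hC : Subgroup.centralizer ({(u : G)} : Set G) ≤ H)
    (b : Set (IrrCharacter (Subgroup.centralizer ({u} : Set H)))) :
    blk M (Subgroup.centralizer ({(u : G)} : Set G)) (mapBlock (cenIso hC) b) =
      incl H (AlgInt ⧸ M) (blk M (Subgroup.centralizer ({u} : Set H)) b) := by
  refine Blocks.alg_ext fun g => ?_
  rw [BrauerPairs.coeff_blk]
  unfold subgroupBlockCoeff
  by_cases hg : g ∈ Subgroup.centralizer ({(u : G)} : Set G)
  · rw [dif_pos hg, BrauerPairs.blockCoeff_mapBlock]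
    refine Eq.symm ((BrauerPairs.coeff_incl_coe H _ (⟨g, hC hg⟩ : H)).trans ?_)
    rw [BrauerPairs.coeff_blk, subgroupBlockCoeff,
      dif_pos (show (⟨g, hC hg⟩ : H) ∈ Subgroup.centralizer ({u} : Set H) from
        Subgroup.mem_centralizer_singleton_iff.2
          (Subtype.ext (Subgroup.mem_centralizer_singleton_iff.1 hg)))]
    rfl
  · rw [dif_neg hg, Blocks.red_zero]
    by_cases hgH : g ∈ H
    · refine Eq.symm ((BrauerPairs.coeff_incl_coe H _ (⟨g, hgH⟩ : H)).trans ?_)
      rw [BrauerPairs.coeff_blk, subgroupBlockCoeff, dif_neg, Blocks.red_zero]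
      exact fun h => hg (Subgroup.mem_centralizer_singleton_iff.2
        (congrArg Subtype.val (Subgroup.mem_centralizer_singleton_iff.1 h)))
    · rw [BrauerPairs.coeff_incl_of_notMem H _ hgH]

/-- The contribution of a subsection inside `H` only depends on the restrictions to `H`. -/
theorem sectF_cenIso (hC : Subgroup.centralizer ({(u : G)} : Set G) ≤ H)
    (b : Set (IrrCharacter (Subgroup.centralizer ({u} : Set H)))) (χ ψ : G → ℂ) :
    sectF p (Subgroup.centralizer ({(u : G)} : Set G)) (u : G) (mapBlock (cenIso hC) b) χ ψ =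
      sectF p (Subgroup.centralizer ({u} : Set H)) u b (fun h => χ h) (fun h => ψ h) := by
  unfold sectF
  rw [Nat.card_congr (cenIso hC).toEquiv, finsum_eq_sum_of_fintype, finsum_eq_sum_of_fintype]
  congr 1
  refine Fintype.sum_equiv (cenIso hC).toEquiv _ _ fun s => ?_
  have hreg : IsPRegular p s ↔ IsPRegular p ((cenIso hC) s) := by
    simp only [IsPRegular, MulEquiv.orderOf_eq]
  refine if_congr hreg ?_ rfl
  have hu : (u : G) ∈ Subgroup.centralizer ({(u : G)} : Set G) :=
    Subgroup.mem_centralizer_singleton_iff.2 rfl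
  have hu' : u ∈ Subgroup.centralizer ({u} : Set H) :=
    Subgroup.mem_centralizer_singleton_iff.2 rfl
  congr 1
  rw [show (u : G) * (s : G) =
      ((⟨u, hu⟩ * s : Subgroup.centralizer ({(u : G)} : Set G)) : G) from rfl,
    chiL_inclA_mul_single,
    show u * (((cenIso hC).toEquiv s : Subgroup.centralizer ({u} : Set H)) : H) =
      ((⟨u, hu'⟩ * (cenIso hC).toEquiv s : Subgroup.centralizer ({u} : Set H)) : H) from rfl,
    chiL_inclA_mul_single]
  refine Fintype.sum_equiv (cenIso hC).toEquiv _ _ fun k => ?_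
  rw [coeff_blockIdem, coeff_blockIdem, BrauerPairs.blockCoeff_mapBlock]
  rfl

end Nested

section Bilinear

variable {H : Subgroup G} {x : G} (b : Set (IrrCharacter H))

theorem sectF_sum {ι : Type*} [Fintype ι] (a c : ι → ℂ) (φ : ι → G → ℂ) :
    sectF p H x b (∑ i, a i • φ i) (∑ i, c i • φ i) =
      ∑ i, ∑ j, a i * conj (c j) * sectF p H x b (φ i) (φ j) := by
  unfold sectF
  simp only [finsum_eq_sum_of_fintype]
  have key : ∀ s : H, (if IsPRegular p s then
      chiL (∑ i, a i • φ i) (inclA H (blockIdem b) * single (x * (s : G)) 1) *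
        conj ((∑ i, c i • φ i) (x * (s : G))) else 0) =
      ∑ i, ∑ j, a i * conj (c j) * (if IsPRegular p s then
        chiL (φ i) (inclA H (blockIdem b) * single (x * (s : G)) 1) *
          conj (φ j (x * (s : G))) else 0) := by
    intro s
    have hl : ∀ y : MonoidAlgebra ℂ G,
        chiL (∑ i, a i • φ i) y = ∑ i, a i * chiL (φ i) y := by
      intro y
      simp only [chiL_eq_sum, Finset.sum_apply, Pi.smul_apply, smul_eq_mul, Finset.mul_sum]
      rw [Finset.sum_comm]
      exact Finset.sum_congr rfl fun i _ => Finset.sum_congr rfl fun g _ => by ring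
    split_ifs with hs
    · simp only [hl, Finset.sum_apply, Pi.smul_apply, smul_eq_mul, map_sum, map_mul,
        Finset.sum_mul, Finset.mul_sum]
      rw [Finset.sum_comm]
      exact Finset.sum_congr rfl fun i _ => Finset.sum_congr rfl fun j _ => by ring
    · simp
  rw [Finset.sum_congr rfl fun s _ => key s, Finset.sum_comm, Finset.mul_sum]
  refine Finset.sum_congr rfl fun i _ => ?_
  rw [Finset.sum_comm, Finset.mul_sum]
  refine Finset.sum_congr rfl fun j _ => ?_
  simp only [Finset.mul_sum]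
  exact Finset.sum_congr rfl fun s _ => by ring

end Bilinear

/-- The local data of a maximal pair at a central element `z` of the defect group. -/
structure CentralData (M : Ideal AlgInt) [M.IsMaximal] (p : ℕ) [Fact p.Prime]
    [CharP (AlgInt ⧸ M) p] (P : Subgroup G)
    (e : MonoidAlgebra (AlgInt ⧸ M) G) (z : G) (f : IrrCharacter G → P → ℂ) : Prop where
  classFun : ∀ χ, IsClassFunction P (f χ)
  coeff : ∀ χ (lam : IrrCharacter P), ∃ m : ℤ, classInner (f χ) lam.1 = m
  apply_inv : ∀ χ (u : P), f χ u⁻¹ = conj (f χ u)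
  rank : ∀ u : P, Subgroup.centralizer ({(u : G)} : Set G) ≤ Subgroup.centralizer ({z} : Set G) →
    blockRank p (blkSet M (Subgroup.centralizer ({(u : G)} : Set G)) (eU p P e u)) = 1
  sect : ∀ u : P, Subgroup.centralizer ({(u : G)} : Set G) ≤ Subgroup.centralizer ({z} : Set G) →
    ∀ χ ψ : IrrCharacter G,
      (Nat.card (P ⊓ Subgroup.centralizer ({(u : G)} : Set G) : Subgroup G) : ℂ) *
        sectF p (Subgroup.centralizer ({(u : G)} : Set G)) (u : G)
          (blkSet M (Subgroup.centralizer ({(u : G)} : Set G)) (eU p P e u)) χ.1 ψ.1 =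
        f χ u * conj (f ψ u)
  fusion : ∀ u v : P, Subgroup.centralizer ({(u : G)} : Set G) ≤ Subgroup.centralizer ({z} : Set G) →
    ∀ g ∈ Subgroup.centralizer ({z} : Set G), g * (u : G) * g⁻¹ = v →
      conjEl g (eU p P e u) = eU p P e v → ∃ w : P, v = w * u * w⁻¹
  defect : p ^ blockDefect p (blkSet M (Subgroup.centralizer ({z} : Set G)) (eU p P e z)) =
    Nat.card P

variable {B : Set (IrrCharacter G)} {P : Subgroup G} {e : MonoidAlgebra (AlgInt ⧸ M) G}

/-- For central `z ∈ P` the block at `z` has defect group `P`. -/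
theorem isDefectGroup_subgroupOf (hB : IsPBlock M B) (ha : IsMax p (blkG M B) (P, e)) {z : G}
    (hz : z ∈ P) (hzc : ∀ v ∈ P, z * v = v * z) :
    IsDefectGroup p M (blkSet M (Subgroup.centralizer ({z} : Set G)) (eU p P e z))
      (P.subgroupOf (Subgroup.centralizer ({z} : Set G))) := by
  have hblk : ∀ H : Subgroup G, BrauerPairs.HasBlocks (AlgInt ⧸ M) H := fun H => hasBlocks M H
  obtain ⟨hbz, hbze⟩ := blkSet_spec (isBlockIdem_eU ha.1.1 hz)
  have hPH : P ≤ Subgroup.centralizer ({z} : Set G) := fun v hv =>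
    Subgroup.mem_centralizer_singleton_iff.2 (hzc v hv).symm
  have hall : P ⊓ Subgroup.centralizer (Subgroup.zpowers z : Set G) = P :=
    inf_eq_left.2 (hPH.trans (centralizer_zpowers_eq (x := z)).ge)
  have h := (BrauerPairs.forall_centralizer_le_iff hblk (isBlockIdem_blkG hB) ha
    (eU_spec ha.1.1 hz)).1 fun g _ => by
      rw [hall]
      exact Nat.le_of_dvd Nat.card_pos (Subgroup.card_dvd_of_le inf_le_left)
  rw [hall, centralizer_zpowers_eq (x := z)] at h
  exact (BrauerPairs.isDefectGroup_subgroupOf_iff hbz hPH).2 (by rwa [hbze])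

/-- A maximal pair with central data at `z`, from the nilpotency of the block at `z`. -/
theorem exists_centralData (hM : IsPModular p M) (hB : IsPBlock M B)
    (ha : IsMax p (blkG M B) (P, e)) {z : G} (hz : z ∈ P) (hzc : ∀ v ∈ P, z * v = v * z)
    (hnil : IsNilpotentBlock p M
      (blkSet M (Subgroup.centralizer ({z} : Set G)) (eU p P e z))) :
    ∃ (e₁ : MonoidAlgebra (AlgInt ⧸ M) G) (f : IrrCharacter G → P → ℂ),
      IsMax p (blkG M B) (P, e₁) ∧ eU p P e₁ z = eU p P e z ∧ CentralData M p P e₁ z f := by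
  have hpM := hM.2.2
  have hblk : ∀ H : Subgroup G, BrauerPairs.HasBlocks (AlgInt ⧸ M) H := fun H => hasBlocks M H
  have hBi := isBlockIdem_blkG hB
  have hez := isBlockIdem_eU ha.1.1 hz
  obtain ⟨hbz, hbze⟩ := blkSet_spec hez
  set H := Subgroup.centralizer ({z} : Set G) with hH
  set bz := blkSet M H (eU p P e z) with hbzd
  have hPH : P ≤ H := fun v hv =>
    Subgroup.mem_centralizer_singleton_iff.2 (hzc v hv).symm
  set P' := P.subgroupOf H with hP'
  have hmapP : P'.map H.subtype = P := Subgroup.map_subgroupOf_eq_of_le hPH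
  have hzP : Subgroup.zpowers z ≤ P := Subgroup.zpowers_le.2 hz
  have hCP : Subgroup.centralizer (P : Set G) ≤ H := fun c hc =>
    Subgroup.mem_centralizer_singleton_iff.2 ((Subgroup.mem_centralizer_iff.1 hc z hz).symm)
  have hPN : P ≤ Subgroup.normalizer (Subgroup.zpowers z : Set G) :=
    hPH.trans ((centralizer_zpowers_eq (x := z)).ge.trans
      (Subgroup.centralizer_le_normalizer _))
  have hstep : Step p (Subgroup.zpowers z, eU p P e z) (P, e) :=
    PLE.step_of_le_normalizer hblk (eU_spec ha.1.1 hz) (PLE.isPair_left (eU_spec ha.1.1 hz) ha.1.1) hPN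
  have hP'D : IsDefectGroup p M bz P' := isDefectGroup_subgroupOf hB ha hz hzc
  obtain ⟨e', η₀, hd⟩ := exists_rankData_of_nilpotent hM hnil hP'D
  have ha' := hd.isMax
  have hnilp := (BrauerPairs.isNilpotentBlock_iff hbz).1 hnil
  obtain ⟨e₁, he₁⟩ : ∃ e₁, e₁ = incl H (AlgInt ⧸ M) e' := ⟨_, rfl⟩
  have hincl : inclPair (P', e') = (P, e₁) := Prod.ext hmapP he₁.symm
  have hpair₁ : IsPair p (P, e₁) := hincl ▸ ha'.1.1.of_incl (by
    show Subgroup.centralizer ((P'.map H.subtype : Subgroup G) : Set G) ≤ H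
    rw [hmapP]
    exact hCP)
  have hbr₁ : br P (eU p P e z) * e₁ = e₁ := by
    rw [← hbze, he₁, ← hmapP]
    show br (P'.map H.subtype) (incl H (AlgInt ⧸ M) (blkG M bz)) * _ = _
    rw [BrauerPairs.br_incl, ← map_mul]
    exact congrArg _ ha'.1.2
  have hstep₁ : Step p (Subgroup.zpowers z, eU p P e z) (P, e₁) :=
    ⟨hstep.1, hpair₁, hzP, hPN, hstep.2.2.2.2.1, hbr₁⟩
  have hof₁ : IsPairOf p (blkG M B) (P, e₁) :=
    (BrauerPairs.step_isPairOf_iff hBi hstep₁).2 (isPairOf_eU hBi ha.1 hz)
  have hmax₁ : IsMax p (blkG M B) (P, e₁) := by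
    refine ⟨hof₁, fun b hb => ?_⟩
    obtain ⟨g, hg⟩ := BrauerPairs.exists_conj_ple hblk hBi ha
      ((BrauerPairs.step_isPairOf_iff hBi hb).2 hof₁)
    have hle := Nat.le_of_dvd Nat.card_pos (Subgroup.card_dvd_of_le (PLE.le hg))
    rw [show (conjPair g b).1 = b.1.map (MulAut.conj g).toMonoidHom from rfl,
      BrauerPairs.card_map_conj] at hle
    exact (Subgroup.eq_of_le_of_card_ge hb.2.2.1 hle).symm
  have hz₁ : eU p P e₁ z = eU p P e z :=
    eU_eq hpair₁ hz (Relation.ReflTransGen.single hstep₁)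
  let ι : P → H := fun v => ⟨v, hPH v.2⟩
  have hιP : ∀ v : P, ι v ∈ P' := fun v => Subgroup.mem_subgroupOf.2 v.2
  let eqv : P' ≃* P := Subgroup.subgroupOfEquivOfLe hPH
  -- blocks at elements whose centralizer lies in `H`
  have hU : ∀ v : P, Subgroup.centralizer ({(v : G)} : Set G) ≤ H →
      eU p P e₁ (v : G) = incl H (AlgInt ⧸ M) (eU p P' e' (ι v)) := by
    intro v hC
    have hzv : (Subgroup.zpowers (ι v)).map H.subtype = Subgroup.zpowers (v : G) :=
      (H.subtype.map_zpowers (ι v))
    refine eU_eq hpair₁ v.2 ?_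
    have h := PLE.of_incl (H := H) (eU_spec ha'.1.1 (hιP v)) (by
      show Subgroup.centralizer (((Subgroup.zpowers (ι v)).map H.subtype : Subgroup G) : Set G) ≤ H
      rw [hzv, centralizer_zpowers_eq]
      exact hC)
    rw [hincl] at h
    rwa [inclPair, hzv] at h
  have hblkU : ∀ (v : P) (hC : Subgroup.centralizer ({(v : G)} : Set G) ≤ H),
      blkSet M (Subgroup.centralizer ({(v : G)} : Set G)) (eU p P e₁ (v : G)) =
        mapBlock (cenIso (u := ι v) hC)
          (blkSet M (Subgroup.centralizer ({ι v} : Set H)) (eU p P' e' (ι v))) := by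
    intro v hC
    obtain ⟨h1, h2⟩ := blkSet_spec (isBlockIdem_eU ha'.1.1 (hιP v))
    conv_lhs => rw [hU v hC, ← h2, ← blk_mapBlock_cenIso (u := ι v) hC]
    exact blkSet_blk (BrauerPairs.isPBlock_mapBlock _ h1)
  have hrank : ∀ v : P,
      blockRank p (blkSet M (Subgroup.centralizer ({ι v} : Set H)) (eU p P' e' (ι v))) = 1 :=
    fun v => blockRank_eq_one_of_nilpotent hM (isNilpotentBlock_centralizer hM hnil
      (exists_orderOf_mem ha'.1.1.1 (hιP v)) (isInducedBlock_eU hpM hbz ha'.1 (hιP v)))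
  let S := Finset.univ.filter (· ∈ bz)
  let m : IrrCharacter G → IrrCharacter H → ℂ := fun χ η =>
    classInner (fun h : H => χ.1 h) η.1
  have hm : ∀ χ η, ∃ k : ℕ, m χ η = k := fun χ η => Char.IsCharacter.exists_nat_classInner
    (Char.IsCharacter.restrict (Char.irr_isCharacter χ) H) (Char.irr_isCharacter η)
  let f : IrrCharacter G → P → ℂ := fun χ v =>
    ∑ η ∈ S, m χ η * TT p P' e' η.1 η₀.1 (ι v)
  refine ⟨e₁, f, hmax₁, hz₁, ⟨?_, ?_, ?_, ?_, ?_, ?_, ?_⟩⟩
  · intro χ c a
    refine Finset.sum_congr rfl fun η _ => congrArg _ ?_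
    exact TT_conj hpM hbz ha' hnilp (hιP c) (hιP a) η η₀
  · intro χ lam
    choose k hk using hm χ
    choose w hw using fun η (hη : η ∈ bz) =>
      exists_int_classInner_TT hM hd hη (BrauerPairs.compIrr eqv lam)
    choose! w' hw' using fun η (hη : η ∈ bz) => (⟨w η hη, hw η hη⟩ : ∃ z : ℤ, _ = (z : ℂ))
    refine ⟨∑ η ∈ S, (k η : ℤ) * w' η, ?_⟩
    have hfe : f χ = ∑ η ∈ S, m χ η • fun v : P => TT p P' e' η.1 η₀.1 (ι v) :=
      funext fun v => by simp only [f, Finset.sum_apply, Pi.smul_apply, smul_eq_mul]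
    rw [hfe, Char.classInner_sum_left, Int.cast_sum]
    refine Finset.sum_congr rfl fun η hη => ?_
    rw [Char.classInner_smul_left, hk, Int.cast_mul, Int.cast_natCast,
      ← hw' η (Finset.mem_filter.1 hη).2]
    congr 1
    unfold classInner
    rw [Nat.card_congr eqv.toEquiv]
    congr 1
    refine (Fintype.sum_equiv eqv.toEquiv _ _ fun v => ?_).symm
    rfl
  · intro χ v
    simp only [f, map_sum, map_mul]
    refine Finset.sum_congr rfl fun η _ => ?_
    obtain ⟨k, hk⟩ := hm χ η
    rw [hk, map_natCast, ← TT_inv hpM ha'.1.1 (hιP v) η η₀]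
    rfl
  · intro v hC
    rw [hblkU v hC, Watanabe.blockRank_mapBlock]
    exact hrank v
  · intro v hC χ ψ
    set b' := blkSet M (Subgroup.centralizer ({ι v} : Set H)) (eU p P' e' (ι v)) with hb'
    have hind : IsInducedBlock M (Subgroup.centralizer ({ι v} : Set H)) b' bz :=
      isInducedBlock_eU hpM hbz ha'.1 (hιP v)
    obtain ⟨k, hk⟩ := exists_orderOf_mem ha'.1.1.1 (hιP v)
    have hexp : ∀ φ : IrrCharacter G,
        (fun h : H => φ.1 h) = ∑ η : IrrCharacter H, m φ η • η.1 := fun φ =>
      Char.eq_sum_classInner_smul (Char.IsCharacter.isClassFunction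
        (Char.IsCharacter.restrict (Char.irr_isCharacter φ) H))
    have hzero : ∀ η η' : IrrCharacter H, η ∉ bz →
        sectF p (Subgroup.centralizer ({ι v} : Set H)) (ι v) b' η.1 η'.1 = 0 := by
      intro η η' hη
      have hnot : ¬ IsInducedBlock M (Subgroup.centralizer ({ι v} : Set H)) b'
          (blockOf M η.1) := fun h => hη (by
        rw [IsInducedBlock.unique hind h]; exact BrauerPairs.mem_blockOf_self η)
      unfold sectF
      rw [finsum_eq_sum_of_fintype]
      refine mul_eq_zero_of_right _ (Finset.sum_eq_zero fun s _ => ?_)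
      split_ifs with hs
      · have h0 := second_main_centralizer (p := p) hpM ⟨k, hk⟩ hind.1 hnot
          (h := (⟨ι v, Subgroup.mem_centralizer_singleton_iff.2 rfl⟩ * s :
            Subgroup.centralizer ({ι v} : Set H)))
          (isPPart_mul (Subgroup.mem_centralizer_singleton_iff.1 s.2).symm ⟨k, hk⟩
            (by rw [IsPRegular, Subgroup.orderOf_coe]; exact hs))
        simp only [Subgroup.coe_mul] at h0
        rw [h0, zero_mul]
      · rfl
    have hzero' : ∀ η η' : IrrCharacter H, η' ∉ bz →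
        sectF p (Subgroup.centralizer ({ι v} : Set H)) (ι v) b' η.1 η'.1 = 0 := by
      intro η η' hη'
      have h := hzero η' η hη'
      rw [sectF_eq_contribution] at h ⊢
      rw [← conj_contribution hpM hind.1, h, map_zero]
    have hcard : Nat.card (P ⊓ Subgroup.centralizer ({(v : G)} : Set G) : Subgroup G) =
        p ^ blockDefect p b' := by
      rw [hb', pow_blockDefect_eU hpM hbz ha' hnilp (hιP v)]
      rw [Nat.card_congr (Subgroup.equivMapOfInjective
          (P' ⊓ Subgroup.centralizer ({ι v} : Set H)) H.subtype H.subtype_injective).toEquiv,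
        Subgroup.map_inf _ _ _ H.subtype_injective, hmapP,
        map_centralizer_singleton (u := ι v) hC]
    rw [hblkU v hC, sectF_cenIso (u := ι v) hC, hexp χ, hexp ψ, sectF_sum, hcard]
    have hterm : ∀ η ∈ S, ∀ η' ∈ S, ((p ^ blockDefect p b' : ℕ) : ℂ) *
        sectF p (Subgroup.centralizer ({ι v} : Set H)) (ι v) b' η.1 η'.1 =
        TT p P' e' η.1 η₀.1 (ι v) * conj (TT p P' e' η'.1 η₀.1 (ι v)) := by
      intro η hη η' hη'
      have h0 := TT_self_eq_one hpM hbz ha' hnilp hd.mem hd.height (hιP v)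
      have hf := contribution_rank_one hpM hind.1 (hrank v) η η' η₀
      rw [conj_TT hpM ha'.1.1 (hιP v), sectF_eq_contribution]
      simp only [TT_eq_contribution, ← hb'] at h0 ⊢
      linear_combination ((p ^ blockDefect p b' : ℕ) : ℂ) ^ 2 * hf -
        ((p ^ blockDefect p b' : ℕ) : ℂ) * contribution p b' η.1 η'.1 * h0
    simp only [f, map_sum, map_mul, Finset.mul_sum, Finset.sum_mul]
    rw [Finset.sum_comm (s := S) (t := S)]
    refine (Finset.sum_subset (Finset.subset_univ S) fun η _ hη => ?_).symm.trans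
      (Finset.sum_congr rfl fun η hη => ?_)
    · exact Finset.sum_eq_zero fun η' _ => by
        rw [hzero η η' (fun h => hη (Finset.mem_filter.2 ⟨Finset.mem_univ _, h⟩)), mul_zero,
          mul_zero]
    refine (Finset.sum_subset (Finset.subset_univ S) fun η' _ hη' => ?_).symm.trans
      (Finset.sum_congr rfl fun η' hη' => ?_)
    · rw [hzero' η η' (fun h => hη' (Finset.mem_filter.2 ⟨Finset.mem_univ _, h⟩)), mul_zero,
        mul_zero]
    · linear_combination (m χ η * conj (m ψ η')) * hterm η hη η' hη'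
  · intro v w hC g hg hvw hconj
    have hC' : Subgroup.centralizer ({(w : G)} : Set G) ≤ H := fun c hc => by
      have h1 : g⁻¹ * c * g ∈ Subgroup.centralizer ({(v : G)} : Set G) := by
        rw [Subgroup.mem_centralizer_singleton_iff, ← hvw] at hc
        rw [Subgroup.mem_centralizer_singleton_iff]
        have := congrArg (fun y => g⁻¹ * y * g) hc
        simpa [mul_assoc] using this
      simpa [mul_assoc] using mul_mem (mul_mem hg (hC h1)) (inv_mem hg)
    rw [hU v hC, hU w hC'] at hconj
    have hH' : conjEl (⟨g, hg⟩ : H) (eU p P' e' (ι v)) = eU p P' e' (ι w) :=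
      BrauerPairs.incl_injective H ((BrauerPairs.conjEl_incl (⟨g, hg⟩ : H) _).trans hconj)
    obtain ⟨t, ht, htw⟩ := exists_conj_of_eU hbz ha' hnilp (hιP v) (hιP w)
      (g := (⟨g, hg⟩ : H)) (Subtype.ext hvw) hH'
    refine ⟨⟨t, Subgroup.mem_subgroupOf.1 ht⟩, Subtype.ext ?_⟩
    exact congrArg (fun y : H => (y : G)) htw
  · rw [hz₁, ← hbzd, ← Nat.card_congr eqv.toEquiv, card_defectGroup hpM hbz hP'D]

end Cfsg.Agent.DihedralDefect
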