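import Cfsg.Agent.Lib.DihedralDefect.Rotations
import Cfsg.Agent.Lib.DihedralDefect.Combi

/-!
# The invariants of a 2-block with dihedral defect group, up to the exceptional configuration

`invariants_of_not_spur`: `k = M₀ + 3`, `1 ≤ l ≤ 3`, four characters of height zero and heights `≤ 1`,
provided the configuration `Spur` does not occur when `M₀ = 4`.
-/

set_option autoImplicit false
set_option linter.unusedSectionVars false
set_option linter.style.haveILetI false

namespace Cfsg.Agent.DihedralDefect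

open Cfsg Blocks
open Cfsg.Agent.BrauerPairs (blk blkG conjEl IsMax IsPairOf isBlockIdem_blkG)
open Cfsg.Agent.Blocks.NilRank
open scoped Classical ComplexConjugate

universe u

variable {G : Type u} [Group G] [Fintype G] {P : Subgroup G} {σ τ : G} {M₀ : ℕ}
  [NeZero (2 * M₀)] {M : Ideal AlgInt} [M.IsMaximal] [Fact (Nat.Prime 2)] [CharP (AlgInt ⧸ M) 2]
  {B : Set (IrrCharacter G)} {e : MonoidAlgebra (AlgInt ⧸ M) G} {f : IrrCharacter G → P → ℂ}
  (hC : CentralData M 2 P e (σ ^ M₀) f) (hD : DiData P σ τ M₀)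

/-- `A a - A 1` on the members of `B`. -/
noncomputable def diffA (B : Set (IrrCharacter G)) (a : ℕ) : {χ : IrrCharacter G // χ ∈ B} → ℤ :=
  fun χ => A hC hD χ.1 (a : ZMod (2 * M₀)) - A hC hD χ.1 (1 : ZMod (2 * M₀))

/-- The value at the central involution, in terms of the differences. -/
noncomputable def zval (B : Set (IrrCharacter G)) : {χ : IrrCharacter G // χ ∈ B} → ℤ := fun χ =>
  diffA hC hD B 0 χ + diffA hC hD B M₀ χ +
    2 * ∑ k : Fin (M₀ - 2), (-1) ^ (k : ℕ) * diffA hC hD B (k + 2) χ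

theorem natCast_eq_natCast {a b : ℕ} (ha : a < 2 * M₀) (hb : b < 2 * M₀) :
    ((a : ZMod (2 * M₀)) = b) ↔ a = b := by
  refine ⟨fun h => ?_, fun h => by rw [h]⟩
  have := congrArg ZMod.val h
  rwa [ZMod.val_natCast_of_lt ha, ZMod.val_natCast_of_lt hb] at this

theorem natCast_eq_zero_iff_lt {a : ℕ} (ha : a < 4 * M₀) :
    ((a : ZMod (2 * M₀)) = 0) ↔ a = 0 ∨ a = 2 * M₀ := by
  rw [ZMod.natCast_eq_zero_iff]
  constructor
  · rintro ⟨c, rfl⟩
    rcases c with _ | _ | c
    · exact Or.inl (by simp)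
    · exact Or.inr (by simp)
    · exfalso
      have : 2 * M₀ * 2 ≤ 2 * M₀ * (c + 1 + 1) := Nat.mul_le_mul_left _ (by omega)
      omega
  · rintro (rfl | rfl)
    · exact dvd_zero _
    · exact dvd_rfl

theorem dot_diffA (hpM : ((2 : ℕ) : AlgInt) ∈ M) (hB : IsPBlock M B)
    (ha : IsMax 2 (blkG M B) (P, e)) {a b : ℕ} (ha' : a ≤ M₀ ∧ a ≠ 1) (hb' : b ≤ M₀ ∧ b ≠ 1) :
    dot (diffA hC hD B a) (diffA hC hD B b) =
      1 + if a = b then (if a = 0 ∨ a = M₀ then 2 else 1) else 0 := by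
  have h2 := hD.two_le
  have hsum := gram hC hD hpM hB ha (a : ZMod (2 * M₀)) (b : ZMod (2 * M₀)) 1 1
  have e : dot (diffA hC hD B a) (diffA hC hD B b) = ∑ χ ∈ Finset.univ.filter (· ∈ B),
      (A hC hD χ (a : ZMod (2 * M₀)) - A hC hD χ 1) *
        (A hC hD χ (b : ZMod (2 * M₀)) - A hC hD χ 1) :=
    (Finset.sum_subtype (Finset.univ.filter (· ∈ B)) (by simp) (fun χ : IrrCharacter G =>
      (A hC hD χ (a : ZMod (2 * M₀)) - A hC hD χ 1) *
        (A hC hD χ (b : ZMod (2 * M₀)) - A hC hD χ 1))).symm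
  have h11 : ((1 : ZMod (2 * M₀)) + 1 ≠ 0) := by
    rw [show (1 : ZMod (2 * M₀)) + 1 = ((2 : ℕ) : ZMod (2 * M₀)) by push_cast; ring, Ne,
      natCast_eq_zero_iff_lt (M₀ := M₀) (by omega)]
    omega
  have hadd : ∀ c : ℕ, c ≤ M₀ → (c : ZMod (2 * M₀)) + 1 ≠ 0 := fun c hc => by
    rw [show (c : ZMod (2 * M₀)) + 1 = ((c + 1 : ℕ) : ZMod (2 * M₀)) by push_cast; ring, Ne,
      natCast_eq_zero_iff_lt (M₀ := M₀) (by omega)]
    omega
  have hsub : ∀ c : ℕ, c ≤ M₀ → c ≠ 1 → (c : ZMod (2 * M₀)) - 1 ≠ 0 := fun c hc hc1 => by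
    rw [sub_ne_zero, show (1 : ZMod (2 * M₀)) = ((1 : ℕ) : ZMod (2 * M₀)) by simp, Ne,
      natCast_eq_natCast (M₀ := M₀) (by omega) (by omega)]
    exact hc1
  have hb1 : (1 : ZMod (2 * M₀)) - b ≠ 0 := by
    rw [← neg_sub, neg_ne_zero]; exact hsub b hb'.1 hb'.2
  have hb2 : (1 : ZMod (2 * M₀)) + b ≠ 0 := by rw [add_comm]; exact hadd b hb'.1
  have hab : ((a : ZMod (2 * M₀)) - b = 0) ↔ a = b := by
    rw [sub_eq_zero, natCast_eq_natCast (M₀ := M₀) (by omega) (by omega)]
  have hab' : ((a : ZMod (2 * M₀)) + b = 0) ↔ (a = b ∧ (a = 0 ∨ a = M₀)) := by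
    rw [show (a : ZMod (2 * M₀)) + b = ((a + b : ℕ) : ZMod (2 * M₀)) by push_cast; ring,
      natCast_eq_zero_iff_lt (M₀ := M₀) (by omega)]
    omega
  rw [e, hsum]
  simp only [h11, hadd a ha'.1, hb2, hsub a ha'.1 ha'.2, hb1, hab, hab', sub_self, if_false, if_true]
  by_cases h : a = b
  · by_cases h' : a = 0 ∨ a = M₀
    · simp [h, h ▸ h']
    · simp [h, h ▸ h']
  · simp [h]

theorem gv_half_eq_zval (χ : {χ : IrrCharacter G // χ ∈ B}) :
    gv f hD χ.1 (M₀ : ZMod (2 * M₀)) = (zval hC hD B χ : ℂ) := by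
  have h2 := hD.two_le
  obtain ⟨a, ha⟩ := hD.two_pow
  have heven : Even M₀ := by
    rw [ha]
    refine (Nat.even_pow).2 ⟨even_two, fun h => ?_⟩
    rw [h, pow_zero] at ha
    omega
  rw [gv_half hC hD, alt_sum_symm (fun j : ℕ => A hC hD χ.1 (j : ZMod (2 * M₀))) heven h2
    fun j _ hj => by
      rw [Nat.cast_sub hj.le, ZMod.natCast_self, zero_sub, A_neg]]
  unfold zval diffA
  rw [Fin.sum_univ_eq_sum_range fun k : ℕ => (-1 : ℤ) ^ k *
    (A hC hD χ.1 ((k + 2 : ℕ) : ZMod (2 * M₀)) - A hC hD χ.1 1)]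
  simp only [Nat.cast_zero, Nat.cast_one]

theorem sum_degree_diffA (hpM : ((2 : ℕ) : AlgInt) ∈ M) (hB : IsPBlock M B)
    (ha : IsMax 2 (blkG M B) (P, e)) (a : ℕ) :
    ∑ χ : {χ : IrrCharacter G // χ ∈ B}, χ.1.1 1 * (diffA hC hD B a χ : ℂ) = 0 := by
  have e : ∑ χ : {χ : IrrCharacter G // χ ∈ B}, χ.1.1 1 * (diffA hC hD B a χ : ℂ) =
      ∑ χ ∈ Finset.univ.filter (· ∈ B), χ.1 1 *
        ((A hC hD χ (a : ZMod (2 * M₀)) : ℂ) - (A hC hD χ 1 : ℂ)) := by
    rw [Finset.sum_subtype (Finset.univ.filter (· ∈ B)) (p := (· ∈ B)) (by simp)]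
    exact Finset.sum_congr rfl fun χ _ => by simp [diffA]
  rw [e]
  simp only [A_spec, ← mul_sub, ← Finset.sum_sub_distrib, Finset.mul_sum]
  rw [Finset.sum_comm]
  refine Finset.sum_eq_zero fun i _ => ?_
  by_cases hi : i = 0
  · simp [hi]
  calc _ = (∑ χ ∈ Finset.univ.filter (· ∈ B), χ.1 1 * gv f hD χ i) *
        (((2 * M₀ : ℕ) : ℂ)⁻¹ * (ZMod.stdAddChar (-(i * (a : ZMod (2 * M₀)))) -
          ZMod.stdAddChar (-(i * 1)))) := by
        rw [Finset.sum_mul]
        exact Finset.sum_congr rfl fun χ _ => by ring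
    _ = 0 := by rw [sum_degree_gv hC hD hpM hB ha hi, zero_mul]

/-- `k(B) - l(B) ≥ M₀`. -/
theorem add_le_card (hpM : ((2 : ℕ) : AlgInt) ∈ M) (hB : IsPBlock M B)
    (ha : IsMax 2 (blkG M B) (P, e)) (hC : CentralData M 2 P e (σ ^ M₀) f) (hD : DiData P σ τ M₀) :
    blockRank 2 B + M₀ ≤ Nat.card B := by
  have h2 := hD.two_le
  let r : Fin M₀ → ZMod (2 * M₀) := fun i => (((i : ℕ) + 1 : ℕ) : ZMod (2 * M₀))
  have hr : ∀ i, r i ≠ 0 := fun i => by
    rw [Ne, natCast_eq_zero_iff_lt (M₀ := M₀) (by omega)]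
    omega
  let x : Option (Fin M₀) → P := fun o => o.elim 1 fun i => rot hD (r i)
  let q : Option (Fin M₀) → G × MonoidAlgebra (AlgInt ⧸ M) G := fun o =>
    ((x o : G), eU 2 P e (x o : G))
  have hone : ∀ (g : G) (i : Fin M₀), g * (rot hD (r i) : G) * g⁻¹ ≠ 1 := fun g i h => by
    rw [mul_inv_eq_one, mul_eq_left] at h
    exact rot_ne_one hD (hr i) h
  have hne : ∀ o o', o ≠ o' → q o' ∉ pairOrbit (q o) := by
    intro o o' hoo h
    obtain ⟨g, hg, hge⟩ := mem_pairOrbit.1 h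
    cases o with
    | none =>
      cases o' with
      | none => exact hoo rfl
      | some i =>
        refine hone 1 i ?_
        have : g * (1 : G) * g⁻¹ = (rot hD (r i) : G) := hg
        simpa using this.symm
    | some i =>
      cases o' with
      | none => exact hone g i hg
      | some l =>
        refine hoo (congrArg some (Fin.ext ?_))
        rcases conj_rot_eq hC hD (hr i) hg hge with hc | hc
        · have := (natCast_eq_natCast (M₀ := M₀) (a := (l : ℕ) + 1) (b := (i : ℕ) + 1) (by omega) (by omega)).1 hc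
          omega
        · have h0 : (((l : ℕ) + 1 + ((i : ℕ) + 1) : ℕ) : ZMod (2 * M₀)) = 0 := by
            rw [Nat.cast_add]
            show r l + r i = 0
            rw [hc, neg_add_cancel]
          rw [natCast_eq_zero_iff_lt (M₀ := M₀) (by omega)] at h0
          omega
  have hle := sum_pairRank_le (M := M) hpM hB q (fun o => mem_secPairs_eU hpM hB ha.1 (x o).2) hne
  rw [Fintype.sum_option] at hle
  have hsome : ∀ i, pairRank 2 (q (some i)) = 1 := fun i => hC.rank _ (rot_centralizer_le hD (hr i))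
  have hnone : pairRank 2 (q none) = blockRank 2 B := pairRank_one hB ha.1
  simpa [hsome, hnone] using hle

/-- The statement, up to the exceptional configuration. -/
theorem invariants_of_not_spur (hpM : ((2 : ℕ) : AlgInt) ∈ M) (hB : IsPBlock M B)
    (ha : IsMax 2 (blkG M B) (P, e))
    (hno : M₀ = 4 → ¬ Spur (fun k : Fin (M₀ - 2) => diffA hC hD B (k + 2))
        (fun k => (-1) ^ (k : ℕ)) (diffA hC hD B 0) (diffA hC hD B M₀) ∧
      ¬ Spur (fun k : Fin (M₀ - 2) => diffA hC hD B (k + 2))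
        (fun k => (-1) ^ (k : ℕ)) (diffA hC hD B M₀) (diffA hC hD B 0)) :
    Nat.card B = M₀ + 3 ∧ 1 ≤ blockRank 2 B ∧ blockRank 2 B ≤ 3 ∧
      Nat.card {χ : IrrCharacter G // χ ∈ B ∧ blockHeight 2 B (χ : G → ℂ) = 0} = 4 ∧
      ∀ χ ∈ B, blockHeight 2 B (χ : G → ℂ) ≤ 1 := by
  have h2 := hD.two_le
  obtain ⟨m, hm⟩ := hD.two_pow
  -- the vectors
  set X := diffA hC hD B 0 with hXd
  set Y := diffA hC hD B M₀ with hYd
  have hX : dot X X = 3 := by rw [hXd, dot_diffA hC hD hpM hB ha (by omega) (by omega)]; simp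
  have hY : dot Y Y = 3 := by rw [hYd, dot_diffA hC hD hpM hB ha (by omega) (by omega)]; simp
  have hXY : dot X Y = 1 := by
    rw [hXd, hYd, dot_diffA hC hD hpM hB ha (by omega) (by omega), if_neg (by omega : ¬ 0 = M₀)]
    rfl
  have hw : ∀ k : Fin (M₀ - 2), ((k : ℕ) + 2 ≤ M₀ ∧ (k : ℕ) + 2 ≠ 1) ∧ (k : ℕ) + 2 ≠ M₀ :=
    fun k => by omega
  -- the height zero character and the value at the central involution
  obtain ⟨ψ₀, hψ₀, hh₀⟩ := exists_height_zero (p := 2) hpM hB
  set x₀ : {χ : IrrCharacter G // χ ∈ B} := ⟨ψ₀, hψ₀⟩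
  obtain ⟨k, hk⟩ := exists_orderOf_mem ha.1.1.1 hD.z_mem
  have hind := isInducedBlock_eU hpM hB ha.1 hD.z_mem
  have hcardP : Nat.card P = 2 ^ blockDefect 2 B :=
    card_defectGroup hpM hB (BrauerPairs.isDefectGroup_of_isMax hB ha)
  have hdef : blockDefect 2 (blkSet M (Subgroup.centralizer ({σ ^ M₀} : Set G))
      (eU 2 P e (σ ^ M₀))) = blockDefect 2 B :=
    Nat.pow_right_injective (le_refl 2) (by simp only [hC.defect, hcardP])
  have hval : ∀ χ : {χ : IrrCharacter G // χ ∈ B},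
      MemLocalRing M (((zval hC hD B χ * zval hC hD B x₀ : ℤ) : ℂ) /
          ((2 ^ blockHeight 2 B χ.1.1 : ℕ) : ℂ)) ∧
        ¬ MemLocalIdeal M (((zval hC hD B χ * zval hC hD B x₀ : ℤ) : ℂ) /
          ((2 ^ blockHeight 2 B χ.1.1 : ℕ) : ℂ)) := by
    intro χ
    have hh := contribution_height hpM hk hind hdef χ.2 hψ₀ hh₀
    have hs := sectF_rot (M := M) hC hD (half_ne_zero hD) χ.1 ψ₀
    have ev : ((2 ^ blockDefect 2 (blkSet M (Subgroup.centralizer ({σ ^ M₀} : Set G))
        (eU 2 P e (σ ^ M₀))) : ℕ) : ℂ) *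
          contribution 2 (blkSet M (Subgroup.centralizer ({σ ^ M₀} : Set G))
            (eU 2 P e (σ ^ M₀))) χ.1.1 ψ₀.1 =
        ((zval hC hD B χ * zval hC hD B x₀ : ℤ) : ℂ) := by
      rw [Int.cast_mul, ← gv_half_eq_zval hC hD, ← gv_half_eq_zval hC hD x₀, ← hs, hC.defect,
        ← sectF_eq_contribution, rot_half hD, hD.inf_centralizer_z, hD.card]
    rw [ev] at hh
    exact ⟨hh.1, hh.2.1⟩
  have hZne : ∀ χ, zval hC hD B χ ≠ 0 := fun χ h => (hval χ).2 (by
    rw [h, zero_mul, Int.cast_zero, zero_div]; exact memLocalIdeal_zero)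
  have hodd : ¬ (2 : ℤ) ∣ zval hC hD B x₀ := fun h => by
    refine (hval x₀).2 ?_
    rw [hh₀, pow_zero, Nat.cast_one, div_one]
    exact (memLocalIdeal_intCast_iff (p := 2) hpM _).2 (dvd_mul_of_dvd_left (by exact_mod_cast h) _)
  -- the configuration
  have hshape : Shape (zval hC hD B) (M₀ - 2) := by
    by_cases h4 : M₀ = 2
    · haveI : IsEmpty (Fin (M₀ - 2)) := ⟨fun k => absurd k.2 (by omega)⟩
      have hz : zval hC hD B = fun χ => X χ + Y χ := funext fun χ => by
        simp [zval, hXd, hYd]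
      rw [hz, show M₀ - 2 = 0 by omega]
      exact shape_of_two hX hY hXY fun χ => by
        have := hZne χ
        rwa [hz] at this
    · have hM4 : 4 ≤ M₀ := by
        rw [hm] at h4 h2 ⊢
        rcases m with _ | _ | m
        · simp at h2
        · simp at h4
        · calc 4 = 2 ^ 2 := rfl
            _ ≤ _ := Nat.pow_le_pow_right (by norm_num) (by omega)
      have heven : Even (M₀ - 2) := by
        rw [hm] at hM4 ⊢
        rcases m with _ | m
        · simp at hM4
        · exact ⟨2 ^ m - 1, by rw [pow_succ]; omega⟩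
      have hJ3 : Fintype.card (Fin (M₀ - 2)) ≠ 3 := fun h => by
        rw [Fintype.card_fin] at h
        rw [h] at heven
        exact absurd heven (by decide)
      have h := shape_of_family (fun k : Fin (M₀ - 2) => diffA hC hD B (k + 2))
        (fun k => (-1) ^ (k : ℕ)) (fun k => by rw [← mul_pow]; simp)
        (by
          rw [Fin.sum_univ_eq_sum_range fun k : ℕ => (-1 : ℤ) ^ k, neg_one_geom_sum, if_pos heven])
        (by rw [Fintype.card_fin]; omega) hJ3
        (fun k => by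
          rw [dot_diffA hC hD hpM hB ha (hw k).1 (hw k).1, if_pos rfl,
            if_neg (by have := (hw k).2; omega)]
          rfl)
        (fun k l hkl => by
          rw [dot_diffA hC hD hpM hB ha (hw k).1 (hw l).1,
            if_neg (fun h => hkl (Fin.ext (by omega)))]
          rfl)
        hX hY hXY
        (fun k => by
          rw [hXd, dot_diffA hC hD hpM hB ha (by omega) (hw k).1, if_neg (by omega)]; rfl)
        (fun k => by
          rw [hYd, dot_diffA hC hD hpM hB ha (by omega) (hw k).1,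
            if_neg (fun h => (hw k).2 h.symm)]; rfl)
        (fun χ => hZne χ)
        (fun h => hno (by rw [Fintype.card_fin] at h; omega))
      rwa [Fintype.card_fin] at h
  obtain ⟨hcard, hfour, hsq⟩ := hshape
  have hk3 : Nat.card B = M₀ + 3 := by
    rw [Nat.card_eq_fintype_card]
    exact hcard.trans (by omega)
  have hl1 : 1 ≤ blockRank 2 B := by
    rw [← pairRank_one hB ha.1]
    exact one_le_pairRank hpM hB ha.1 (one_mem P)
  -- heights
  have hheight : ∀ χ : {χ : IrrCharacter G // χ ∈ B},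
      (zval hC hD B χ * zval hC hD B χ = 1 ↔ blockHeight 2 B χ.1.1 = 0) ∧
        blockHeight 2 B χ.1.1 ≤ 1 := by
    intro χ
    obtain ⟨hR, hI⟩ := hval χ
    have hdiv := (Char.memLocalRing_intCast_div_iff hpM (zval hC hD B χ * zval hC hD B x₀)
      (Nat.two_pow_pos (blockHeight 2 B χ.1.1)).ne').1 hR
    rw [Nat.prime_two.factorization_pow, Finsupp.single_eq_same] at hdiv
    have hco : IsCoprime ((2 : ℤ) ^ blockHeight 2 B χ.1.1) (zval hC hD B x₀) :=
      IsCoprime.pow_left (Int.prime_two.coprime_iff_not_dvd.2 hodd)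
    have hdiv' := hco.dvd_of_dvd_mul_right (by exact_mod_cast hdiv)
    rcases hsq χ with h | h
    · have h1 : zval hC hD B χ = 1 ∨ zval hC hD B χ = -1 :=
        Int.eq_one_or_neg_one_of_mul_eq_one h
      have h0 : blockHeight 2 B χ.1.1 = 0 := by
        by_contra hne
        have := dvd_trans (dvd_pow_self (2 : ℤ) hne) hdiv'
        rcases h1 with e | e <;> rw [e] at this <;> norm_num at this
      exact ⟨iff_of_true h h0, h0 ▸ Nat.zero_le _⟩
    · have h1 : zval hC hD B χ = 2 ∨ zval hC hD B χ = -2 := by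
        have h' : (zval hC hD B χ - 2) * (zval hC hD B χ + 2) = 0 := by ring_nf; linarith
        rcases mul_eq_zero.1 h' with e | e <;> omega
      have hle : blockHeight 2 B χ.1.1 ≤ 1 := by
        by_contra hgt
        have := dvd_trans (pow_dvd_pow (2 : ℤ) (show 2 ≤ blockHeight 2 B χ.1.1 by omega)) hdiv'
        rcases h1 with e | e <;> rw [e] at this <;> norm_num at this
      refine ⟨iff_of_false (by omega) fun h0 => hI ?_, hle⟩
      rw [h0, pow_zero, Nat.cast_one, div_one]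
      exact (memLocalIdeal_intCast_iff (p := 2) hpM _).2
        (dvd_mul_of_dvd_left (by rcases h1 with e | e <;> rw [e] <;> norm_num) _)
  have hle := add_le_card hpM hB ha hC hD
  refine ⟨hk3, hl1, by omega, ?_, fun χ hχ => (hheight ⟨χ, hχ⟩).2⟩
  rw [← hfour, Nat.card_congr (Equiv.subtypeSubtypeEquivSubtypeInter (· ∈ B)
    (fun χ : IrrCharacter G => blockHeight 2 B χ.1 = 0)).symm, Nat.card_eq_fintype_card,
    Fintype.card_subtype]
  exact congrArg Finset.card (Finset.filter_congr fun χ _ => (hheight χ).1.symm)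

end Cfsg.Agent.DihedralDefect
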