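import Cfsg.Agent.Lib.Blocks.NilpotentRank.Pairs
import Cfsg.Agent.Lib.Blocks.NilpotentRank.SectionWeights
import Cfsg.Agent.Lib.Blocks.NilpotentRank.RankEqOne
import Cfsg.Agent.Lib.Watanabe.Rho
import Cfsg.Agent.Lib.Blocks.Contribution

/-!
# Conjugacy classes of pairs and the number of characters of a block

`k(B)` is the sum of `l(b)` over the classes of pairs `(u, b)`; disjoint classes give lower bounds.
-/

set_option autoImplicit false
set_option linter.unusedSectionVars false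
set_option linter.style.haveILetI false

namespace Cfsg.Agent.DihedralDefect

open Cfsg Blocks MonoidAlgebra
open Cfsg.Agent.BrauerPairs (blk blkG IsBlockIdem conjEl conjPair IsPairOf IsMax IsPair
  isBlockIdem_blkG)
open Cfsg.Agent.Blocks.NilRank
open scoped Classical ComplexConjugate

universe u

variable {G : Type u} [Group G] [Fintype G] {M : Ideal AlgInt} [M.IsMaximal] {p : ℕ}
  [hp : Fact p.Prime] [CharP (AlgInt ⧸ M) p] {B : Set (IrrCharacter G)}

/-- The conjugates of a pair. -/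
noncomputable def pairOrbit (q : G × MonoidAlgebra (AlgInt ⧸ M) G) :
    Finset (G × MonoidAlgebra (AlgInt ⧸ M) G) :=
  Finset.univ.image fun g : G => (g * q.1 * g⁻¹, conjEl g q.2)

theorem mem_pairOrbit {q q' : G × MonoidAlgebra (AlgInt ⧸ M) G} :
    q' ∈ pairOrbit q ↔ ∃ g : G, g * q.1 * g⁻¹ = q'.1 ∧ conjEl g q.2 = q'.2 := by
  simp [pairOrbit, Prod.ext_iff]

theorem self_mem_pairOrbit (q : G × MonoidAlgebra (AlgInt ⧸ M) G) : q ∈ pairOrbit q :=
  mem_pairOrbit.2 ⟨1, by group, BrauerPairs.conjEl_one _⟩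

theorem pairOrbit_disjoint {q q' : G × MonoidAlgebra (AlgInt ⧸ M) G} (h : q' ∉ pairOrbit q) :
    Disjoint (pairOrbit q) (pairOrbit q') := by
  refine Finset.disjoint_left.2 fun r hr hr' => h ?_
  obtain ⟨g, hg, hg'⟩ := mem_pairOrbit.1 hr
  obtain ⟨a, ha, ha'⟩ := mem_pairOrbit.1 hr'
  refine mem_pairOrbit.2 ⟨a⁻¹ * g, ?_, ?_⟩
  · calc a⁻¹ * g * q.1 * (a⁻¹ * g)⁻¹ = a⁻¹ * (g * q.1 * g⁻¹) * a := by group
      _ = q'.1 := by rw [hg, ← ha]; group
  · rw [BrauerPairs.conjEl_mul, hg', ← ha', BrauerPairs.conjEl_inv_conjEl]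

theorem conj_mem_secPairs (hpM : (p : AlgInt) ∈ M) (hB : IsPBlock M B)
    {q : G × MonoidAlgebra (AlgInt ⧸ M) G} (hq : q ∈ secPairs M p B) (g : G) :
    (g * q.1 * g⁻¹, conjEl g q.2) ∈ secPairs M p B := by
  obtain ⟨⟨k, hk⟩, hpr⟩ := (mem_secPairs hpM hB q).1 hq
  refine (mem_secPairs hpM hB _).2 ⟨⟨k, ?_⟩, ?_⟩
  · show orderOf (MulAut.conj g q.1) = _
    rw [MulEquiv.orderOf_eq, hk]
  · have h := hpr.conj (isBlockIdem_blkG hB) g
    rwa [show conjPair g (Subgroup.zpowers q.1, q.2) =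
      (Subgroup.zpowers (g * q.1 * g⁻¹), conjEl g q.2) from
        Prod.ext (map_conj_zpowers g q.1) rfl] at h

theorem pairOrbit_subset (hpM : (p : AlgInt) ∈ M) (hB : IsPBlock M B)
    {q : G × MonoidAlgebra (AlgInt ⧸ M) G} (hq : q ∈ secPairs M p B) :
    pairOrbit q ⊆ secPairs M p B := fun r hr => by
  obtain ⟨g, hg, hg'⟩ := mem_pairOrbit.1 hr
  have h := conj_mem_secPairs hpM hB hq g
  rwa [hg, hg'] at h

theorem card_centralizer_conj (g u : G) :
    Nat.card (Subgroup.centralizer ({g * u * g⁻¹} : Set G)) =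
      Nat.card (Subgroup.centralizer ({u} : Set G)) := by
  rw [← centralizer_zpowers_eq, ← map_conj_zpowers, ← BrauerPairs.map_conj_centralizer,
    BrauerPairs.card_map_conj, centralizer_zpowers_eq]

/-- A conjugation invariant sum over a class of pairs. -/
theorem sum_pairOrbit {q : G × MonoidAlgebra (AlgInt ⧸ M) G}
    (hq : IsBlockIdem (Subgroup.centralizer ({q.1} : Set G)) q.2)
    (F : G × MonoidAlgebra (AlgInt ⧸ M) G → ℂ)
    (hF : ∀ g : G, F (g * q.1 * g⁻¹, conjEl g q.2) = F q) :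
    ∑ r ∈ pairOrbit q, (Nat.card (Subgroup.centralizer ({r.1} : Set G)) : ℂ) * F r =
      (Nat.card G : ℂ) * F q := by
  let π : G → G × MonoidAlgebra (AlgInt ⧸ M) G := fun g => (g * q.1 * g⁻¹, conjEl g q.2)
  have hfib : ∀ r ∈ pairOrbit q, (Finset.univ.filter fun g => π g = r).card =
      Nat.card (Subgroup.centralizer ({q.1} : Set G)) := by
    intro r hr
    obtain ⟨a, ha, ha'⟩ := mem_pairOrbit.1 hr
    rw [Nat.card_eq_fintype_card, ← Finset.card_univ]
    symm
    refine Finset.card_bij (fun c _ => a * (c : G)) (fun c _ => ?_)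
      (fun c _ d _ h => Subtype.ext (mul_left_cancel h)) fun g hg => ?_
    · refine Finset.mem_filter.2 ⟨Finset.mem_univ _, Prod.ext ?_ ?_⟩
      · show a * (c : G) * q.1 * (a * (c : G))⁻¹ = r.1
        have hc : (c : G) * q.1 = q.1 * c := Subgroup.mem_centralizer_singleton_iff.1 c.2
        calc _ = a * ((c : G) * q.1 * (c : G)⁻¹) * a⁻¹ := by group
          _ = _ := by rw [hc, mul_inv_cancel_right, ha]
      · show conjEl (a * (c : G)) q.2 = r.2
        rw [BrauerPairs.conjEl_mul, hq.mem.2 c c.2, ha']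
    · have hg' : g * q.1 * g⁻¹ = r.1 := congrArg Prod.fst (Finset.mem_filter.1 hg).2
      refine ⟨⟨a⁻¹ * g, Subgroup.mem_centralizer_singleton_iff.2 ?_⟩, Finset.mem_univ _, ?_⟩
      · rw [← mul_inv_eq_iff_eq_mul]
        calc a⁻¹ * g * q.1 * (a⁻¹ * g)⁻¹ = a⁻¹ * (g * q.1 * g⁻¹) * a := by group
          _ = q.1 := by rw [hg', ← ha]; group
      · show a * (a⁻¹ * g) = g
        group
  have hcard : ∀ r ∈ pairOrbit q,
      (Nat.card (Subgroup.centralizer ({r.1} : Set G)) : ℂ) * F r =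
        ∑ g ∈ Finset.univ.filter (fun g => π g = r), F q := by
    intro r hr
    obtain ⟨a, ha, ha'⟩ := mem_pairOrbit.1 hr
    rw [Finset.sum_const, nsmul_eq_mul, hfib r hr, ← ha, card_centralizer_conj,
      show r = (a * q.1 * a⁻¹, conjEl a q.2) from Prod.ext ha.symm ha'.symm, hF]
  rw [Finset.sum_congr rfl hcard, Finset.sum_fiberwise_of_maps_to (g := π)
    (fun g _ => mem_pairOrbit.2 ⟨g, rfl, rfl⟩) fun _ => F q, Finset.sum_const, Finset.card_univ,
    nsmul_eq_mul, Nat.card_eq_fintype_card]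

/-- The rank of the block of the pair `q`. -/
noncomputable def pairRank (p : ℕ) (q : G × MonoidAlgebra (AlgInt ⧸ M) G) : ℕ :=
  blockRank p (blkSet M (Subgroup.centralizer ({q.1} : Set G)) q.2)

theorem pairRank_conj {q : G × MonoidAlgebra (AlgInt ⧸ M) G}
    (hq : IsBlockIdem (Subgroup.centralizer ({q.1} : Set G)) q.2) (g : G) :
    pairRank p (g * q.1 * g⁻¹, conjEl g q.2) = pairRank p q := by
  have hH : ∀ c, c ∈ Subgroup.centralizer ({g * q.1 * g⁻¹} : Set G) ↔
      g⁻¹ * c * g ∈ Subgroup.centralizer ({q.1} : Set G) := fun c => by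
    simp only [Subgroup.mem_centralizer_singleton_iff]
    constructor
    · intro h
      have := congrArg (fun y => g⁻¹ * y * g) h
      simpa [mul_assoc] using this
    · intro h
      have := congrArg (fun y => g * y * g⁻¹) h
      simpa [mul_assoc] using this
  obtain ⟨h1, h2⟩ := blkSet_spec hq
  unfold pairRank
  conv_lhs => rw [show (g * q.1 * g⁻¹, conjEl g q.2).2 = conjEl g q.2 from rfl, ← h2,
    ← BrauerPairs.blk_mapBlock_conjIso g hH]
  rw [blkSet_blk (BrauerPairs.isPBlock_mapBlock _ h1), Watanabe.blockRank_mapBlock]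

/-- `|G| k(B) = Σ |C(u)| l(b)` over all pairs `(u, b)` of `B`. -/
theorem sum_pairRank (hpM : (p : AlgInt) ∈ M) (hB : IsPBlock M B) :
    ∑ q ∈ secPairs M p B,
      (Nat.card (Subgroup.centralizer ({q.1} : Set G)) : ℂ) * (pairRank p q : ℂ) =
      (Nat.card G : ℂ) * Nat.card B := by
  calc _ = ∑ q ∈ secPairs M p B, ∑ χ ∈ Finset.univ.filter (· ∈ B),
          (Nat.card (Subgroup.centralizer ({q.1} : Set G)) : ℂ) *
            sectF p (Subgroup.centralizer ({q.1} : Set G)) q.1
              (blkSet M (Subgroup.centralizer ({q.1} : Set G)) q.2) χ.1 χ.1 := by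
        refine Finset.sum_congr rfl fun q hq => ?_
        obtain ⟨⟨k, hk⟩, hpr⟩ := (mem_secPairs hpM hB q).1 hq
        obtain ⟨h1, h2⟩ := blkSet_spec (centralizer_zpowers_eq (x := q.1) ▸ hpr.1.2)
        have hind := (isInducedBlock_centralizer_iff hpM ⟨k, hk⟩ hB h1).2 (by rw [h2]; exact hpr.2)
        simp only [sectF_eq_contribution]
        rw [← Finset.mul_sum, sum_contribution_self hpM hk hind]
        rfl
    _ = ∑ χ ∈ Finset.univ.filter (· ∈ B), (Nat.card G : ℂ) * classInner χ.1 χ.1 := by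
        rw [Finset.sum_comm]
        exact Finset.sum_congr rfl fun χ hχ =>
          (classInner_eq_sum_secPairs hpM hB (Finset.mem_filter.1 hχ).2 χ).symm
    _ = _ := by
        simp only [Char.classInner_irr, if_true, mul_one, Finset.sum_const, nsmul_eq_mul]
        rw [Nat.card_eq_fintype_card (α := B), Fintype.card_subtype, mul_comm]

/-- Nonconjugate pairs bound `k(B)` from below. -/
theorem sum_pairRank_le (hpM : (p : AlgInt) ∈ M) (hB : IsPBlock M B) {ι : Type*} [Fintype ι]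
    (q : ι → G × MonoidAlgebra (AlgInt ⧸ M) G) (hq : ∀ i, q i ∈ secPairs M p B)
    (hne : ∀ i j, i ≠ j → q j ∉ pairOrbit (q i)) :
    ∑ i, pairRank p (q i) ≤ Nat.card B := by
  have hdisj : ∀ i ∈ (Finset.univ : Finset ι), ∀ j ∈ (Finset.univ : Finset ι), i ≠ j →
      Disjoint (pairOrbit (q i)) (pairOrbit (q j)) := fun i _ j _ h => pairOrbit_disjoint (hne i j h)
  have hidem : ∀ i, IsBlockIdem (Subgroup.centralizer ({(q i).1} : Set G)) (q i).2 := fun i =>
    centralizer_zpowers_eq (x := (q i).1) ▸ ((mem_secPairs hpM hB _).1 (hq i)).2.1.2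
  have horb : ∀ i, ∑ r ∈ pairOrbit (q i),
      Nat.card (Subgroup.centralizer ({r.1} : Set G)) * pairRank p r =
        Nat.card G * pairRank p (q i) := by
    intro i
    have h := sum_pairOrbit (hidem i) (fun r => (pairRank p r : ℂ))
      (fun g => by rw [pairRank_conj (hidem i) g])
    exact_mod_cast h
  have htot : ∑ r ∈ secPairs M p B,
      Nat.card (Subgroup.centralizer ({r.1} : Set G)) * pairRank p r = Nat.card G * Nat.card B := by
    exact_mod_cast sum_pairRank (M := M) (p := p) hpM hB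
  refine Nat.le_of_mul_le_mul_left ?_ (Nat.card_pos (α := G))
  rw [← htot, Finset.mul_sum, ← Finset.sum_congr rfl fun i _ => horb i,
    ← Finset.sum_biUnion hdisj]
  refine Finset.sum_le_sum_of_subset fun r hr => ?_
  obtain ⟨i, -, hi⟩ := Finset.mem_biUnion.1 hr
  exact pairOrbit_subset hpM hB (hq i) hi

variable {P : Subgroup G} {e : MonoidAlgebra (AlgInt ⧸ M) G}

theorem mem_secPairs_eU (hpM : (p : AlgInt) ∈ M) (hB : IsPBlock M B)
    (ha : IsPairOf p (blkG M B) (P, e)) {u : G} (hu : u ∈ P) :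
    (u, eU p P e u) ∈ secPairs M p B :=
  (mem_secPairs hpM hB _).2 ⟨exists_orderOf_mem ha.1.1 hu, isPairOf_eU (isBlockIdem_blkG hB) ha hu⟩

theorem pairRank_one (hB : IsPBlock M B) (ha : IsPairOf p (blkG M B) (P, e)) :
    pairRank p ((1 : G), eU p P e 1) = blockRank p B := by
  have hC : Subgroup.centralizer ({(1 : G)} : Set G) = ⊤ := centralizer_one_eq_top
  have he : eU p P e 1 = blkG M B := by
    have hBi := isBlockIdem_blkG hB
    have h := (isPairOf_eU hBi ha (one_mem P)).2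
    rw [BrauerPairs.br_eq_self fun g hg => absurd (by
      rw [centralizer_zpowers_eq, hC]; exact Subgroup.mem_top g) hg] at h
    exact BrauerPairs.IsBlockIdem.eq_of_mul_ne_zero (hC ▸ isBlockIdem_eU ha.1 (one_mem P)) hBi
      (by rw [h]; exact (isBlockIdem_eU ha.1 (one_mem P)).ne_zero)
  unfold pairRank
  show blockRank p (blkSet M _ (eU p P e 1)) = _
  rw [he, ← Watanabe.blk_topEquiv hC B, blkSet_blk (BrauerPairs.isPBlock_mapBlock _ hB),
    Watanabe.blockRank_mapBlock]

theorem one_le_pairRank (hpM : (p : AlgInt) ∈ M) (hB : IsPBlock M B)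
    (ha : IsPairOf p (blkG M B) (P, e)) {u : G} (hu : u ∈ P) :
    1 ≤ pairRank p (u, eU p P e u) := by
  obtain ⟨k, hk⟩ := exists_orderOf_mem ha.1.1 hu
  have hind := isInducedBlock_eU hpM hB ha hu
  obtain ⟨χ₀, hχ₀, hh⟩ := exists_height_zero (p := p) hpM hB
  unfold pairRank
  refine Nat.one_le_iff_ne_zero.2 fun h0 => ?_
  have hr : ∀ χ : IrrCharacter G,
      contribution p (blkSet M (Subgroup.centralizer ({u} : Set G)) (eU p P e u)) χ.1 χ.1 =
      ((∑ ψ ∈ Finset.univ.filter (· ∈ B), Complex.normSq (contribution p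
        (blkSet M (Subgroup.centralizer ({u} : Set G)) (eU p P e u)) χ.1 ψ.1) : ℝ) : ℂ) := fun χ => by
    rw [← sum_contribution_mul_conj hpM hk hind χ, Complex.ofReal_sum]
    exact Finset.sum_congr rfl fun ψ _ => Complex.mul_conj _
  have h1 := sum_contribution_self hpM hk hind
  rw [h0, Nat.cast_zero, Finset.sum_congr rfl fun χ _ => hr χ, ← Complex.ofReal_sum,
    Complex.ofReal_eq_zero, Finset.sum_eq_zero_iff_of_nonneg
      fun χ _ => Finset.sum_nonneg fun ψ _ => Complex.normSq_nonneg _] at h1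
  have hne := not_memLocalIdeal_contribution hpM hk hind hχ₀ hh hχ₀ hh
  rw [hr, h1 χ₀ (Finset.mem_filter.2 ⟨Finset.mem_univ _, hχ₀⟩), Complex.ofReal_zero, mul_zero] at hne
  exact hne memLocalIdeal_zero

end Cfsg.Agent.DihedralDefect
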