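import Cfsg.Agent.Lib.DihedralDefect.Local
import Cfsg.Agent.Lib.DihedralDefect.Dihedral
import Cfsg.Agent.Lib.DihedralDefect.Orbit
import Cfsg.Agent.Lib.BrauerPairs.HeightBound
import Mathlib.Analysis.Fourier.ZMod

/-!
# The generalized decomposition numbers on the rotations of a dihedral defect group

`gv f hD χ i` is `f χ (σ ^ i)`, `A χ j` its Fourier coefficients: integers with an explicit Gram
matrix for their differences.
-/

set_option autoImplicit false
set_option linter.unusedSectionVars false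
set_option linter.style.haveILetI false

namespace Cfsg.Agent.DihedralDefect

open Cfsg Blocks
open Cfsg.Agent.BrauerPairs (blk blkG conjEl IsMax IsPairOf isBlockIdem_blkG)
open Cfsg.Agent.Blocks.NilRank
open scoped Classical ComplexConjugate

universe u

/-- An alternating sum over a symmetric sequence. -/
theorem alt_sum_symm {R : Type*} [CommRing R] (F : ℕ → R) {m : ℕ} (hm : Even m) (hm2 : 2 ≤ m)
    (hF : ∀ j, m < j → j < 2 * m → F j = F (2 * m - j)) :
    ∑ j ∈ Finset.range (2 * m), (-1) ^ j * F j =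
      (F 0 - F 1) + (F m - F 1) + 2 * ∑ k ∈ Finset.range (m - 2), (-1) ^ k * (F (k + 2) - F 1) := by
  obtain ⟨a, rfl⟩ : ∃ a, m = a + 2 := ⟨m - 2, by omega⟩
  have ha : Even a := by rw [Nat.even_add] at hm; exact hm.2 (by decide)
  have h1 : ∀ j : ℕ, (-1 : R) ^ (j + 2) = (-1) ^ j := fun j => by rw [pow_add]; simp
  have hlow : ∑ j ∈ Finset.range (a + 2), (-1) ^ j * F j =
      F 0 - F 1 + ∑ k ∈ Finset.range a, (-1) ^ k * F (k + 2) := by
    rw [Finset.sum_range_succ', Finset.sum_range_succ']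
    simp only [show ∀ k : ℕ, k + 1 + 1 = k + 2 from fun k => rfl, h1]
    ring
  have hhigh : ∑ j ∈ Finset.Ico (a + 2) (2 * (a + 2)), (-1) ^ j * F j =
      F (a + 2) - F 1 + ∑ k ∈ Finset.range a, (-1) ^ k * F (k + 2) := by
    rw [Finset.sum_eq_sum_Ico_succ_bot (show a + 2 < 2 * (a + 2) by omega)]
    have hre : ∑ j ∈ Finset.Ico (a + 2 + 1) (2 * (a + 2)), (-1) ^ j * F j =
        ∑ k ∈ Finset.range (a + 1), (-1) ^ (k + 1) * F (k + 1) := by
      refine Finset.sum_nbij' (fun j => 2 * (a + 2) - j - 1) (fun k => 2 * (a + 2) - (k + 1))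
        (fun j hj => ?_) (fun k hk => ?_) (fun j hj => ?_) (fun k hk => ?_) fun j hj => ?_
      · have := Finset.mem_Ico.1 hj; exact Finset.mem_range.2 (by omega)
      · have := Finset.mem_range.1 hk; exact Finset.mem_Ico.2 (by omega)
      · have := Finset.mem_Ico.1 hj; omega
      · have := Finset.mem_range.1 hk; omega
      · have := Finset.mem_Ico.1 hj
        rw [hF j (by omega) (by omega), show 2 * (a + 2) - j - 1 + 1 = 2 * (a + 2) - j by omega]
        congr 1
        rw [neg_one_pow_eq_pow_mod_two, neg_one_pow_eq_pow_mod_two (n := 2 * (a + 2) - j)]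
        congr 1
        omega
    rw [hre, Finset.sum_range_succ', hm.neg_one_pow]
    simp only [show ∀ k : ℕ, k + 1 + 1 = k + 2 from fun k => rfl, h1]
    ring
  have halt : ∑ k ∈ Finset.range a, (-1 : R) ^ k = 0 := by
    have h := neg_one_geom_sum (R := R) (n := a)
    rwa [if_pos ha] at h
  rw [← Finset.sum_range_add_sum_Ico _ (show a + 2 ≤ 2 * (a + 2) by omega), hlow, hhigh,
    Nat.add_sub_cancel]
  simp only [mul_sub, Finset.sum_sub_distrib, ← Finset.sum_mul, halt]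
  ring

variable {G : Type u} [Group G] [Fintype G] {P : Subgroup G} {σ τ : G} {M₀ : ℕ}

namespace DiData

variable (hD : DiData P σ τ M₀)
include hD

theorem conj_cases {w r : G} (hw : w ∈ P) (hr : r ∈ Subgroup.zpowers σ) :
    w * r * w⁻¹ = r ∨ w * r * w⁻¹ = r⁻¹ := by
  by_cases hwK : w ∈ Subgroup.zpowers σ
  · left
    obtain ⟨i, rfl⟩ := hwK
    obtain ⟨j, rfl⟩ := hr
    rw [mul_inv_eq_iff_eq_mul]
    exact ((Commute.refl σ).zpow_zpow i j).eq
  · exact Or.inr (hD.conj_rot hw hwK hr)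

theorem inf_centralizer_rot {r : G} (hr : r ∈ Subgroup.zpowers σ) (h2 : r * r ≠ 1) :
    Nat.card (P ⊓ Subgroup.centralizer ({r} : Set G) : Subgroup G) = 2 * M₀ := by
  rw [← hD.order, ← Nat.card_zpowers σ]
  have h : P ⊓ Subgroup.centralizer ({r} : Set G) = Subgroup.zpowers σ := by
    ext v
    constructor
    · rintro ⟨hv, hc⟩
      by_contra hvK
      have h1 := hD.conj_rot hv hvK hr
      rw [Subgroup.mem_centralizer_singleton_iff.1 hc, mul_inv_cancel_right] at h1
      exact h2 (mul_eq_one_iff_eq_inv.2 h1)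
    · intro hv
      refine ⟨hD.K_le hv, Subgroup.mem_centralizer_singleton_iff.2 ?_⟩
      obtain ⟨i, rfl⟩ := hv
      obtain ⟨j, rfl⟩ := hr
      exact ((Commute.refl σ).zpow_zpow i j).eq
  rw [h]

theorem inf_centralizer_z :
    Nat.card (P ⊓ Subgroup.centralizer ({σ ^ M₀} : Set G) : Subgroup G) = 4 * M₀ := by
  rw [inf_eq_left.2 fun v hv => Subgroup.mem_centralizer_singleton_iff.2 (hD.z_comm hv).symm, hD.card]

theorem pow_eq_pow {a b : ℕ} : σ ^ a = σ ^ b ↔ a ≡ b [MOD 2 * M₀] := by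
  rw [pow_eq_pow_iff_modEq, hD.order]

end DiData

variable [NeZero (2 * M₀)]

/-- `i ↦ σ ^ i` into `P`. -/
def rotHom (hD : DiData P σ τ M₀) : Multiplicative (ZMod (2 * M₀)) →* P where
  toFun i := ⟨σ ^ (Multiplicative.toAdd i).val, pow_mem hD.σ_mem _⟩
  map_one' := Subtype.ext (by simp)
  map_mul' i j := Subtype.ext (by
    show σ ^ (Multiplicative.toAdd i + Multiplicative.toAdd j).val =
      σ ^ (Multiplicative.toAdd i).val * σ ^ (Multiplicative.toAdd j).val
    rw [← pow_add, hD.pow_eq_pow, ZMod.val_add]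
    exact Nat.mod_modEq _ _)

/-- `σ ^ i` as an element of `P`. -/
def rot (hD : DiData P σ τ M₀) (i : ZMod (2 * M₀)) : P := rotHom hD (Multiplicative.ofAdd i)

theorem coe_rot (hD : DiData P σ τ M₀) (i : ZMod (2 * M₀)) : (rot hD i : G) = σ ^ i.val := rfl

theorem rot_mem (hD : DiData P σ τ M₀) (i : ZMod (2 * M₀)) : (rot hD i : G) ∈ Subgroup.zpowers σ :=
  pow_mem (Subgroup.mem_zpowers σ) _

theorem rot_neg (hD : DiData P σ τ M₀) (i : ZMod (2 * M₀)) : rot hD (-i) = (rot hD i)⁻¹ := by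
  rw [rot, rot, ofAdd_neg, map_inv]

theorem rot_inj (hD : DiData P σ τ M₀) {i j : ZMod (2 * M₀)} (h : rot hD i = rot hD j) : i = j := by
  have h' := congrArg (fun v : P => (v : G)) h
  simp only [coe_rot] at h'
  rw [hD.pow_eq_pow, ← ZMod.natCast_eq_natCast_iff, ZMod.natCast_zmod_val,
    ZMod.natCast_zmod_val] at h'
  exact h'

theorem rot_zero (hD : DiData P σ τ M₀) : rot hD 0 = 1 := map_one _

theorem rot_half (hD : DiData P σ τ M₀) : (rot hD (M₀ : ZMod (2 * M₀)) : G) = σ ^ M₀ := by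
  rw [coe_rot, ZMod.val_natCast_of_lt (by have := hD.two_le; omega)]

theorem rot_ne_one (hD : DiData P σ τ M₀) {i : ZMod (2 * M₀)} (h : i ≠ 0) : (rot hD i : G) ≠ 1 :=
  fun h' => h (rot_inj hD (by rw [rot_zero]; exact Subtype.ext h'))

theorem rot_centralizer_le (hD : DiData P σ τ M₀) {i : ZMod (2 * M₀)} (h : i ≠ 0) :
    Subgroup.centralizer ({(rot hD i : G)} : Set G) ≤ Subgroup.centralizer ({σ ^ M₀} : Set G) :=
  hD.centralizer_le (rot_mem hD i) (rot_ne_one hD h)

theorem half_ne_zero (hD : DiData P σ τ M₀) : (M₀ : ZMod (2 * M₀)) ≠ 0 := fun h =>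
  hD.z_ne (by rw [← rot_half hD, h, rot_zero, OneMemClass.coe_one])

theorem eq_half (hD : DiData P σ τ M₀) {i : ZMod (2 * M₀)} (h : i ≠ 0)
    (h2 : (rot hD i : G) * (rot hD i : G) = 1) : i = (M₀ : ZMod (2 * M₀)) :=
  rot_inj hD (Subtype.ext (((hD.rot_sq (rot_mem hD i) h2).resolve_left (rot_ne_one hD h)).trans
    (rot_half hD).symm))

variable {M : Ideal AlgInt} [M.IsMaximal] [Fact (Nat.Prime 2)] [CharP (AlgInt ⧸ M) 2]
  {B : Set (IrrCharacter G)} {e : MonoidAlgebra (AlgInt ⧸ M) G} {f : IrrCharacter G → P → ℂ}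

/-- The decomposition numbers at the rotations. -/
def gv (f : IrrCharacter G → P → ℂ) (hD : DiData P σ τ M₀) (χ : IrrCharacter G)
    (i : ZMod (2 * M₀)) : ℂ := f χ (rot hD i)

variable (hC : CentralData M 2 P e (σ ^ M₀) f) (hD : DiData P σ τ M₀)
include hC

theorem gv_neg (χ : IrrCharacter G) (i : ZMod (2 * M₀)) : gv f hD χ (-i) = gv f hD χ i := by
  have h : (⟨τ, hD.τ_mem⟩ : P) * rot hD i * (⟨τ, hD.τ_mem⟩ : P)⁻¹ = rot hD (-i) := by
    rw [rot_neg]
    exact Subtype.ext (hD.conj_rot hD.τ_mem hD.τ_not (rot_mem hD i))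
  rw [gv, ← h, hC.classFun χ (rot hD i) ⟨τ, hD.τ_mem⟩, gv]

theorem conj_gv (χ : IrrCharacter G) (i : ZMod (2 * M₀)) : conj (gv f hD χ i) = gv f hD χ i := by
  rw [gv, ← hC.apply_inv χ, ← rot_neg]
  exact gv_neg hC hD χ i

theorem exists_coeff (χ : IrrCharacter G) (j : ZMod (2 * M₀)) :
    ∃ m : ℤ, ((2 * M₀ : ℕ) : ℂ)⁻¹ * ∑ i, gv f hD χ i * ZMod.stdAddChar (-(i * j)) = m := by
  have hgen : IsGeneralizedCharacter P (f χ) := by
    refine Char.isGeneralizedCharacter_iff.2 ⟨hC.classFun χ, fun lam => hC.coeff χ lam⟩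
  have hg := Char.IsGeneralizedCharacter.comp hgen (rotHom hD)
  let μ : Multiplicative (ZMod (2 * M₀)) →* ℂ :=
    { toFun := fun i => ZMod.stdAddChar (Multiplicative.toAdd i * j)
      map_one' := by simp
      map_mul' := fun a b => by simp [add_mul, AddChar.map_add_eq_mul] }
  obtain ⟨m, hm⟩ := Char.IsGeneralizedCharacter.exists_int_classInner hg
    (Char.IsCharacter.isGeneralized (Char.IsIrrCharacter.isCharacter
      (Char.isIrrCharacter_of_monoidHom μ)))
  refine ⟨m, ?_⟩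
  rw [← hm, classInner, Nat.card_congr Multiplicative.toAdd, Nat.card_zmod]
  congr 1
  refine Fintype.sum_equiv Multiplicative.ofAdd _ _ fun i => ?_
  show gv f hD χ i * _ = f χ (rot hD i) * conj (ZMod.stdAddChar (i * j))
  rw [← AddChar.map_neg_eq_conj]
  rfl

/-- The Fourier coefficient at `j`. -/
noncomputable def A (χ : IrrCharacter G) (j : ZMod (2 * M₀)) : ℤ := (exists_coeff hC hD χ j).choose

theorem A_spec (χ : IrrCharacter G) (j : ZMod (2 * M₀)) :
    (A hC hD χ j : ℂ) = ((2 * M₀ : ℕ) : ℂ)⁻¹ * ∑ i, gv f hD χ i * ZMod.stdAddChar (-(i * j)) :=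
  (exists_coeff hC hD χ j).choose_spec.symm

theorem A_neg (χ : IrrCharacter G) (j : ZMod (2 * M₀)) : A hC hD χ (-j) = A hC hD χ j := by
  have h : (A hC hD χ (-j) : ℂ) = (A hC hD χ j : ℂ) := by
    rw [A_spec, A_spec]
    congr 1
    refine Fintype.sum_equiv (Equiv.neg _) _ _ fun i => ?_
    show _ = gv f hD χ (-i) * ZMod.stdAddChar (-(-i * j))
    rw [gv_neg hC hD, mul_neg, neg_mul]
  exact_mod_cast h

omit hC in
theorem sum_stdAddChar (t : ZMod (2 * M₀)) :
    ∑ i : ZMod (2 * M₀), (ZMod.stdAddChar (i * t) : ℂ) =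
      if t = 0 then ((2 * M₀ : ℕ) : ℂ) else 0 := by
  have h := AddChar.sum_mulShift t (ZMod.isPrimitive_stdAddChar (2 * M₀))
  rw [h, ZMod.card]
  split_ifs <;> simp

theorem sum_A_mul (χ : IrrCharacter G) (i : ZMod (2 * M₀)) :
    ∑ j, (A hC hD χ j : ℂ) * ZMod.stdAddChar (i * j) = gv f hD χ i := by
  have hN : ((2 * M₀ : ℕ) : ℂ) ≠ 0 := Nat.cast_ne_zero.2 (NeZero.ne _)
  simp only [A_spec, mul_assoc, Finset.sum_mul, ← Finset.mul_sum]
  rw [Finset.sum_comm]
  simp only [← Finset.mul_sum, ← AddChar.map_add_eq_mul]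
  have h : ∀ l : ZMod (2 * M₀),
      ∑ j, (ZMod.stdAddChar (-(l * j) + i * j) : ℂ) = if i - l = 0 then ((2 * M₀ : ℕ) : ℂ) else 0 :=
    fun l => by
      rw [← sum_stdAddChar (i - l)]
      exact Finset.sum_congr rfl fun j _ => by congr 1; ring
  simp only [h, sub_eq_zero, mul_ite, mul_zero, Finset.sum_ite_eq, Finset.mem_univ, if_true]
  rw [mul_comm (gv f hD χ i), ← mul_assoc, inv_mul_cancel₀ hN, one_mul]

theorem gv_half (χ : IrrCharacter G) : gv f hD χ (M₀ : ZMod (2 * M₀)) =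
    ((∑ j ∈ Finset.range (2 * M₀), (-1) ^ j * A hC hD χ (j : ZMod (2 * M₀)) : ℤ) : ℂ) := by
  have hψ : (ZMod.stdAddChar ((M₀ : ZMod (2 * M₀))) : ℂ) = -1 := by
    rw [show (M₀ : ZMod (2 * M₀)) = ((M₀ : ℤ) : ZMod (2 * M₀)) by simp, ZMod.stdAddChar_coe,
      ← Complex.exp_pi_mul_I]
    congr 1
    have : (M₀ : ℂ) ≠ 0 := Nat.cast_ne_zero.2 (by have := hD.two_le; omega)
    push_cast
    field_simp
  rw [← sum_A_mul hC hD χ, Int.cast_sum]
  symm
  refine Finset.sum_bij (fun j _ => (j : ZMod (2 * M₀))) (fun _ _ => Finset.mem_univ _)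
    (fun a ha b hb h => ?_) (fun b _ => ⟨b.val, Finset.mem_range.2 (ZMod.val_lt b), by simp⟩)
    fun j _ => ?_
  · have := congrArg ZMod.val h
    rwa [ZMod.val_natCast_of_lt (Finset.mem_range.1 ha),
      ZMod.val_natCast_of_lt (Finset.mem_range.1 hb)] at this
  · rw [mul_comm (M₀ : ZMod (2 * M₀)), ← nsmul_eq_mul, AddChar.map_nsmul_eq_pow, hψ]
    push_cast
    ring

theorem conj_rot_eq {g : G} {i l : ZMod (2 * M₀)} (hi : i ≠ 0)
    (hg : g * (rot hD i : G) * g⁻¹ = rot hD l)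
    (he : conjEl g (eU 2 P e (rot hD i : G)) = eU 2 P e (rot hD l : G)) : l = i ∨ l = -i := by
  have hgz : g ∈ Subgroup.centralizer ({σ ^ M₀} : Set G) := by
    obtain ⟨c, hc⟩ := hD.z_mem_zpowers (rot_mem hD i) (rot_ne_one hD hi)
    have himg : g * σ ^ M₀ * g⁻¹ ∈ Subgroup.zpowers σ := by
      rw [← hc]
      show g * (rot hD i : G) ^ c * g⁻¹ ∈ _
      rw [← conj_zpow, hg]
      exact zpow_mem (rot_mem hD l) c
    rcases hD.rot_sq himg (by
      rw [show g * σ ^ M₀ * g⁻¹ * (g * σ ^ M₀ * g⁻¹) = g * (σ ^ M₀ * σ ^ M₀) * g⁻¹ by group,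
        hD.z_sq, mul_one, mul_inv_cancel]) with hz | hz
    · exact absurd (by simpa using hz) hD.z_ne
    · exact Subgroup.mem_centralizer_singleton_iff.2 (mul_inv_eq_iff_eq_mul.1 hz)
  obtain ⟨w, hw⟩ := hC.fusion _ _ (rot_centralizer_le hD hi) g hgz hg he
  rcases hD.conj_cases w.2 (rot_mem hD i) with hc | hc
  · exact Or.inl (rot_inj hD (hw.trans (Subtype.ext hc)))
  · exact Or.inr (rot_inj hD ((hw.trans (Subtype.ext hc)).trans (rot_neg hD i).symm))

theorem sectF_rot {i : ZMod (2 * M₀)} (hi : i ≠ 0) (φ ψ : IrrCharacter G) :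
    (Nat.card (P ⊓ Subgroup.centralizer ({(rot hD i : G)} : Set G) : Subgroup G) : ℂ) *
      sectF 2 (Subgroup.centralizer ({(rot hD i : G)} : Set G)) (rot hD i : G)
        (blkSet M (Subgroup.centralizer ({(rot hD i : G)} : Set G)) (eU 2 P e (rot hD i : G)))
        φ.1 ψ.1 = gv f hD φ i * gv f hD ψ i := by
  rw [hC.sect _ (rot_centralizer_le hD hi)]
  show gv f hD φ i * conj (gv f hD ψ i) = _
  rw [conj_gv hC hD]

theorem gv_ne_zero (hpM : ((2 : ℕ) : AlgInt) ∈ M) (hB : IsPBlock M B)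
    (ha : IsMax 2 (blkG M B) (P, e)) {j : ZMod (2 * M₀)} (hj : j ≠ 0) {χ : IrrCharacter G}
    (hχ : χ ∈ B) (hh : blockHeight 2 B χ.1 = 0) : gv f hD χ j ≠ 0 := fun h0 => by
  obtain ⟨c, hc⟩ := exists_orderOf_mem ha.1.1.1 (rot hD j).2
  have hnot := not_memLocalIdeal_contribution hpM hc
    (isInducedBlock_eU hpM hB ha.1 (rot hD j).2) hχ hh hχ hh
  have h1 := sectF_rot (M := M) hC hD hj χ χ
  rw [h0, zero_mul, sectF_eq_contribution] at h1
  rw [(mul_eq_zero.1 h1).resolve_left (Nat.cast_ne_zero.2 Nat.card_pos.ne'), mul_zero] at hnot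
  exact hnot memLocalIdeal_zero

/-- The degrees are orthogonal to the decomposition numbers at nontrivial rotations. -/
theorem sum_degree_gv (hpM : ((2 : ℕ) : AlgInt) ∈ M) (hB : IsPBlock M B)
    (ha : IsMax 2 (blkG M B) (P, e)) {i : ZMod (2 * M₀)} (hi : i ≠ 0) :
    ∑ χ ∈ Finset.univ.filter (· ∈ B), χ.1 1 * gv f hD χ i = 0 := by
  obtain ⟨ψ, hψ, hh⟩ := exists_height_zero (p := 2) hpM hB
  obtain ⟨k, hk⟩ := exists_orderOf_mem ha.1.1.1 (rot hD i).2
  refine (mul_eq_zero.1 (?_ : gv f hD ψ i *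
    ∑ χ ∈ Finset.univ.filter (· ∈ B), χ.1 1 * gv f hD χ i = 0)).resolve_left
      (gv_ne_zero hC hD hpM hB ha hi hψ hh)
  rw [Finset.mul_sum, Finset.sum_congr rfl fun χ _ =>
    show gv f hD ψ i * (χ.1 1 * gv f hD χ i) = _ by
      rw [← mul_assoc, mul_comm (gv f hD ψ i), mul_assoc, ← sectF_rot (M := M) hC hD hi ψ χ,
        sectF, finsum_eq_sum_of_fintype]]
  simp only [Finset.mul_sum]
  rw [Finset.sum_comm]
  refine Finset.sum_eq_zero fun s _ => ?_
  by_cases hs : IsPRegular 2 s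
  swap
  · simp [hs]
  have hpp : IsPPart 2 ((rot hD i : G) * (s : G)) (rot hD i : G) :=
    isPPart_mul (Subgroup.mem_centralizer_singleton_iff.1 s.2).symm ⟨k, hk⟩
      (by rw [IsPRegular, Subgroup.orderOf_coe]; exact hs)
  have hsing : ¬ IsPRegular 2 ((rot hD i : G) * (s : G)) := fun hr =>
    rot_ne_one hD hi (IsPPart.unique hpp ⟨(rot hD i : G) * (s : G), one_mul _, Commute.one_left _,
      ⟨0, by rw [orderOf_one, pow_zero]⟩, hr⟩)
  have hz := blockCoeff_eq_zero hpM hB hsing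
  rw [blockCoeff_eq_sum] at hz
  have hz' := (mul_eq_zero.1 hz).resolve_left (inv_ne_zero (Nat.cast_ne_zero.2 Nat.card_pos.ne'))
  simp only [if_pos hs]
  set K : ℂ := (Nat.card (P ⊓ Subgroup.centralizer ({(rot hD i : G)} : Set G) : Subgroup G) : ℂ) *
    ((Nat.card (Subgroup.centralizer ({(rot hD i : G)} : Set G)) : ℂ)⁻¹ *
      chiL ψ.1 (inclA _ (blockIdem (blkSet M (Subgroup.centralizer ({(rot hD i : G)} : Set G))
        (eU 2 P e (rot hD i : G)))) * MonoidAlgebra.single ((rot hD i : G) * (s : G)) 1))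
    with hK
  refine (Finset.sum_congr rfl fun χ _ => ?_).trans
    (show ∑ χ ∈ Finset.univ.filter (· ∈ B), K * (χ.1 1 * conj (χ.1 ((rot hD i : G) * (s : G)))) = 0
      by rw [← Finset.mul_sum, hz', mul_zero])
  rw [hK]
  ring

theorem sum_gv_mul (hpM : ((2 : ℕ) : AlgInt) ∈ M) (hB : IsPBlock M B)
    (ha : IsMax 2 (blkG M B) (P, e)) {i l : ZMod (2 * M₀)} (hi : i ≠ 0) (hl : l ≠ 0) :
    ∑ χ ∈ Finset.univ.filter (· ∈ B), gv f hD χ i * gv f hD χ l =
      ((2 * M₀ : ℕ) : ℂ) * ((if l = i then 1 else 0) + if l = -i then 1 else 0) := by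
  have hdata : ∀ j : ZMod (2 * M₀), j ≠ 0 → ∀ φ ψ : IrrCharacter G,
      (Nat.card (P ⊓ Subgroup.centralizer ({(rot hD j : G)} : Set G) : Subgroup G) : ℂ) *
        contribution 2 (blkSet M (Subgroup.centralizer ({(rot hD j : G)} : Set G))
          (eU 2 P e (rot hD j : G))) φ.1 ψ.1 = gv f hD φ j * gv f hD ψ j := fun j hj φ ψ => by
    rw [← sectF_eq_contribution, hC.sect _ (rot_centralizer_le hD hj)]
    show gv f hD φ j * conj (gv f hD ψ j) = _
    rw [conj_gv hC hD]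
  have hne : ∀ j : ZMod (2 * M₀),
      (Nat.card (P ⊓ Subgroup.centralizer ({(rot hD j : G)} : Set G) : Subgroup G) : ℂ) ≠ 0 :=
    fun j => Nat.cast_ne_zero.2 Nat.card_pos.ne'
  by_cases h : l = i ∨ l = -i
  · have hgl : ∀ χ, gv f hD χ l = gv f hD χ i := fun χ => by
      rcases h with rfl | rfl
      · rfl
      · exact gv_neg hC hD χ i
    obtain ⟨k, hk⟩ := exists_orderOf_mem ha.1.1.1 (rot hD i).2
    have hs : ∑ χ ∈ Finset.univ.filter (· ∈ B), gv f hD χ i * gv f hD χ l =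
        (Nat.card (P ⊓ Subgroup.centralizer ({(rot hD i : G)} : Set G) : Subgroup G) : ℂ) := by
      rw [Finset.sum_congr rfl fun χ _ => show gv f hD χ i * gv f hD χ l = _ by
          rw [hgl, ← hdata i hi χ χ], ← Finset.mul_sum,
        sum_contribution_self hpM hk (isInducedBlock_eU hpM hB ha.1 (rot hD i).2),
        hC.rank _ (rot_centralizer_le hD hi), Nat.cast_one, mul_one]
    rw [hs]
    by_cases h2 : (rot hD i : G) * (rot hD i : G) = 1
    · have hi' : i = -i := by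
        refine rot_inj hD (Subtype.ext ?_)
        rw [rot_neg, Subgroup.coe_inv, eq_inv_iff_mul_eq_one]
        exact h2
      have hli : l = i := by rcases h with h | h <;> [exact h; exact h.trans hi'.symm]
      rw [show (rot hD i : G) = σ ^ M₀ by rw [eq_half hD hi h2]; exact rot_half hD,
        hD.inf_centralizer_z, if_pos hli, if_pos (hli.trans hi')]
      push_cast
      ring
    · have hi' : i ≠ -i := fun e => h2 (by
        rw [mul_eq_one_iff_eq_inv, ← Subgroup.coe_inv, ← rot_neg, ← e])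
      rw [hD.inf_centralizer_rot (rot_mem hD i) h2]
      rcases h with rfl | rfl
      · rw [if_pos rfl, if_neg hi']
        push_cast
        ring
      · rw [if_neg hi'.symm, if_pos rfl]
        push_cast
        ring
  · rw [not_or] at h
    rw [if_neg h.1, if_neg h.2, add_zero, mul_zero]
    obtain ⟨χ₀, hχ₀, hh⟩ := exists_height_zero (p := 2) hpM hB
    obtain ⟨k, hk⟩ := exists_orderOf_mem ha.1.1.1 (rot hD i).2
    obtain ⟨k', hk'⟩ := exists_orderOf_mem ha.1.1.1 (rot hD l).2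
    have hindi := isInducedBlock_eU hpM hB ha.1 (rot hD i).2
    have hindl := isInducedBlock_eU hpM hB ha.1 (rot hD l).2
    have horth := HeightBound.sum_ctr_mul_conj_eq_zero (p := 2) hpM rfl rfl hk hk' hindi hindl.1
      (fun g hg he => by
        rw [(blkSet_spec (isBlockIdem_eU ha.1.1 (rot hD i).2)).2,
          (blkSet_spec (isBlockIdem_eU ha.1.1 (rot hD l).2)).2] at he
        rcases conj_rot_eq hC hD hi hg he with hc | hc
        · exact h.1 hc
        · exact h.2 hc) χ₀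
    simp only [HeightBound.ctr_eq_contribution] at horth
    have hnz : ∀ j : ZMod (2 * M₀), j ≠ 0 → gv f hD χ₀ j ≠ 0 := fun j hj =>
      gv_ne_zero hC hD hpM hB ha hj hχ₀ hh
    refine (mul_eq_zero.1 (?_ : gv f hD χ₀ i * gv f hD χ₀ l *
      ∑ χ ∈ Finset.univ.filter (· ∈ B), gv f hD χ i * gv f hD χ l = 0)).resolve_left
        (mul_ne_zero (hnz i hi) (hnz l hl))
    have hz := congrArg (fun x : ℂ =>
      (Nat.card (P ⊓ Subgroup.centralizer ({(rot hD i : G)} : Set G) : Subgroup G) : ℂ) *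
        (Nat.card (P ⊓ Subgroup.centralizer ({(rot hD l : G)} : Set G) : Subgroup G) : ℂ) * x) horth
    simp only [mul_zero, Finset.mul_sum] at hz
    rw [← hz, Finset.mul_sum]
    refine Finset.sum_congr rfl fun χ _ => ?_
    have h1 := hdata i hi χ₀ χ
    have h2 := congrArg conj (hdata l hl χ₀ χ)
    simp only [map_mul, conj_gv hC hD, map_natCast] at h2
    linear_combination -(gv f hD χ₀ l * gv f hD χ l) * h1 -
      ((Nat.card (P ⊓ Subgroup.centralizer ({(rot hD i : G)} : Set G) : Subgroup G) : ℂ) *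
        contribution 2 (blkSet M (Subgroup.centralizer ({(rot hD i : G)} : Set G))
          (eU 2 P e (rot hD i : G))) χ₀.1 χ.1) * h2

theorem gram (hpM : ((2 : ℕ) : AlgInt) ∈ M) (hB : IsPBlock M B)
    (ha : IsMax 2 (blkG M B) (P, e)) (a b c d : ZMod (2 * M₀)) :
    ∑ χ ∈ Finset.univ.filter (· ∈ B),
        (A hC hD χ a - A hC hD χ c) * (A hC hD χ b - A hC hD χ d) =
      ((if a + b = 0 then 1 else 0) - (if a + d = 0 then 1 else 0) - (if c + b = 0 then 1 else 0) +
          (if c + d = 0 then 1 else 0) : ℤ) +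
        ((if a - b = 0 then 1 else 0) - (if a - d = 0 then 1 else 0) -
          (if c - b = 0 then 1 else 0) + (if c - d = 0 then 1 else 0) : ℤ) := by
  set N : ℂ := ((2 * M₀ : ℕ) : ℂ) with hNd
  have hN : N ≠ 0 := Nat.cast_ne_zero.2 (NeZero.ne _)
  let x : ZMod (2 * M₀) → ℂ := fun i => ZMod.stdAddChar (-(i * a)) - ZMod.stdAddChar (-(i * c))
  let y : ZMod (2 * M₀) → ℂ := fun i => ZMod.stdAddChar (-(i * b)) - ZMod.stdAddChar (-(i * d))
  have hA : ∀ χ : IrrCharacter G,
      (((A hC hD χ a - A hC hD χ c) * (A hC hD χ b - A hC hD χ d) : ℤ) : ℂ) =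
        N⁻¹ * N⁻¹ * ∑ i, ∑ l, x i * y l * (gv f hD χ i * gv f hD χ l) := by
    intro χ
    push_cast
    rw [A_spec, A_spec, A_spec, A_spec]
    simp only [← mul_sub, ← Finset.sum_sub_distrib, x, y]
    rw [mul_mul_mul_comm, Finset.sum_mul_sum]
    exact congrArg _ (Finset.sum_congr rfl fun i _ => Finset.sum_congr rfl fun l _ => by ring)
  have hS : ∀ i l : ZMod (2 * M₀),
      x i * y l * ∑ χ ∈ Finset.univ.filter (· ∈ B), gv f hD χ i * gv f hD χ l =
        x i * y l * (N * ((if l = i then 1 else 0) + if l = -i then 1 else 0)) := by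
    intro i l
    by_cases hi : i = 0
    · simp [x, hi]
    by_cases hl : l = 0
    · simp [y, hl]
    rw [sum_gv_mul hC hD hpM hB ha hi hl]
  have horth : ∀ t : ZMod (2 * M₀), ∑ i : ZMod (2 * M₀), (ZMod.stdAddChar (-(i * t)) : ℂ) =
      N * (((if t = 0 then 1 else 0) : ℤ) : ℂ) := fun t => by
    simp only [← mul_neg, sum_stdAddChar, neg_eq_zero]
    split_ifs <;> simp [hNd]
  have key : ∀ b' d' : ZMod (2 * M₀), ∑ i, x i *
      (ZMod.stdAddChar (-(i * b')) - ZMod.stdAddChar (-(i * d'))) =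
        N * (((if a + b' = 0 then 1 else 0) - (if a + d' = 0 then 1 else 0) -
          (if c + b' = 0 then 1 else 0) + (if c + d' = 0 then 1 else 0) : ℤ) : ℂ) := by
    intro b' d'
    simp only [x, sub_mul, mul_sub, ← AddChar.map_add_eq_mul, ← neg_add, ← mul_add,
      Finset.sum_sub_distrib, horth]
    push_cast
    ring
  refine Int.cast_injective (α := ℂ) ?_
  rw [Int.cast_sum, Finset.sum_congr rfl fun χ _ => hA χ, ← Finset.mul_sum, Finset.sum_comm,
    Finset.sum_congr rfl fun i _ => Finset.sum_comm]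
  simp only [← Finset.mul_sum, hS, mul_add, Finset.sum_add_distrib, mul_ite, mul_one, mul_zero,
    Finset.sum_ite_eq', Finset.mem_univ, if_true]
  have h1 := key b d
  have h2 := key (-b) (-d)
  simp only [← sub_eq_add_neg] at h2
  have e1 : ∑ i, x i * y i * N = N * ∑ i, x i *
      (ZMod.stdAddChar (-(i * b)) - ZMod.stdAddChar (-(i * d))) := by
    rw [Finset.mul_sum]
    exact Finset.sum_congr rfl fun i _ => by simp only [y]; ring
  have e2 : ∑ i, x i * y (-i) * N = N * ∑ i, x i *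
      (ZMod.stdAddChar (-(i * -b)) - ZMod.stdAddChar (-(i * -d))) := by
    rw [Finset.mul_sum]
    exact Finset.sum_congr rfl fun i _ => by simp only [y, neg_mul, mul_neg]; ring
  rw [e1, e2, h1, h2]
  push_cast
  field_simp

end Cfsg.Agent.DihedralDefect
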