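import Cfsg.Agent.Lib.DihedralDefect.StructureSum
import Cfsg.Agent.Lib.DihedralDefect.Main
import Cfsg.Agent.Lib.BrauerPairs.LocalBridge
import Cfsg.Agent.Lib.Blocks.NagaoTrace

/-!
# The trace of the central involution on the rotation subsection

For `z = σ ^ M₀` let `a = Tr_{C(z)}^G (z e_z)`. Its central character on `B` is a unit modulo `M`,
while `∑ ω_χ(a) m(χ, χ)` over the subsection at `σ` is `0` modulo `M` when `M₀ ≠ 2`.
-/

set_option autoImplicit false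
set_option linter.unusedSectionVars false
set_option linter.style.haveILetI false

namespace Cfsg.Agent.DihedralDefect

open Cfsg Blocks MonoidAlgebra
open Cfsg.Agent.BrauerPairs (blk blkG conjEl coeff_conjEl conjEl_mul br fixedBy suppIn relTr incl
  IsMax IsPair IsPairOf IsBlockIdem PLE Step DefectIn isBlockIdem_blkG hasBlocks centerIn_commute)
open Cfsg.Agent.Blocks.NilRank
open scoped Classical ComplexConjugate

universe u

variable {G : Type u} [Group G] [Fintype G]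

section Alg

variable {R : Type*} [CommRing R]

theorem single_mem_fixedBy {H : Subgroup G} {a : G} (h : ∀ c ∈ H, c * a = a * c) (r : R) :
    single a r ∈ fixedBy R H := fun c hc => by
  rw [conjEl_single, h c hc, mul_inv_cancel_right]

theorem conjEl_mem_fixedBy_of {C Q : Subgroup G} {g : G} {a : MonoidAlgebra R G}
    (ha : a ∈ fixedBy R C) (h : ∀ u ∈ Q, g⁻¹ * u * g ∈ C) : conjEl g a ∈ fixedBy R Q := fun u hu => by
  conv_rhs => rw [← ha _ (h u hu)]
  rw [← conjEl_mul, ← conjEl_mul]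
  congr 2
  group

theorem br_single_mul {Q : Subgroup G} {c : G} (hc : c ∈ Subgroup.centralizer (Q : Set G))
    (a : MonoidAlgebra R G) : br Q (single c 1 * a) = single c 1 * br Q a := by
  refine alg_ext fun y => ?_
  rw [BrauerPairs.coeff_br, coeff_single_mul', coeff_single_mul', BrauerPairs.coeff_br]
  by_cases hy : y ∈ Subgroup.centralizer (Q : Set G)
  · rw [if_pos hy, if_pos (mul_mem (inv_mem hc) hy)]
  · rw [if_neg hy, if_neg, mul_zero]
    exact fun h => hy (by simpa using mul_mem hc h)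

theorem conjEl_incl_classSum {C : Subgroup G} {g : G} (hC : C.map (MulAut.conj g).toMonoidHom = C)
    (r r' : C) (hr : (r' : G) = g * r * g⁻¹) :
    conjEl g (incl C R (classSum R r)) = incl C R (classSum R r') := by
  have hiff : ∀ y : G, y ∈ C ↔ g⁻¹ * y * g ∈ C := fun y => by
    conv_lhs => rw [← hC]
    rw [Subgroup.mem_map_equiv]
    simp [mul_assoc]
  refine alg_ext fun y => ?_
  rw [coeff_conjEl]
  by_cases hy : y ∈ C
  · obtain ⟨y', rfl⟩ : ∃ y' : C, (y' : G) = y := ⟨⟨y, hy⟩, rfl⟩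
    obtain ⟨w, hw⟩ : ∃ w : C, (w : G) = g⁻¹ * y' * g := ⟨⟨_, (hiff y').1 y'.2⟩, rfl⟩
    rw [← hw, BrauerPairs.coeff_incl_coe, BrauerPairs.coeff_incl_coe, coeff_classSum, coeff_classSum]
    have key : IsConj r w ↔ IsConj r' y' := by
      refine ⟨fun h => ?_, fun h => ?_⟩
      · obtain ⟨c, hc⟩ := isConj_iff.1 h
        have hc' : g * (c : G) * g⁻¹ ∈ C := by
          rw [hiff]; simp [mul_assoc]
        refine isConj_iff.2 ⟨⟨_, hc'⟩, Subtype.ext ?_⟩
        have h1 : (c : G) * r * (c : G)⁻¹ = g⁻¹ * y' * g := by rw [← hw, ← hc]; rfl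
        show g * (c : G) * g⁻¹ * r' * (g * (c : G) * g⁻¹)⁻¹ = y'
        rw [hr]
        calc _ = g * ((c : G) * r * (c : G)⁻¹) * g⁻¹ := by group
          _ = _ := by rw [h1]; group
      · obtain ⟨c, hc⟩ := isConj_iff.1 h
        refine isConj_iff.2 ⟨⟨_, (hiff c).1 c.2⟩, Subtype.ext ?_⟩
        have h1 : (c : G) * r' * (c : G)⁻¹ = y' := by rw [← hc]; rfl
        show g⁻¹ * (c : G) * g * r * (g⁻¹ * (c : G) * g)⁻¹ = w
        rw [hw, ← h1, hr]
        group
    by_cases h : IsConj r w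
    · rw [if_pos h, if_pos (key.1 h)]
    · rw [if_neg h, if_neg (mt key.2 h)]
  · rw [BrauerPairs.coeff_incl_of_notMem _ _ hy,
      BrauerPairs.coeff_incl_of_notMem _ _ (mt (hiff y).2 hy)]

end Alg

section Red

variable {M : Ideal AlgInt} [M.IsMaximal]

theorem scoeff_conjEl {z : MonoidAlgebra ℂ G} (hz : SCoeff M z) (g : G) : SCoeff M (conjEl g z) :=
  fun y => by rw [coeff_conjEl]; exact hz _

theorem redA_conjEl (z : MonoidAlgebra ℂ G) (g : G) :
    redA M (conjEl g z) = conjEl g (redA M z) :=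
  alg_ext fun y => by rw [coeff_redA, coeff_conjEl, coeff_conjEl, coeff_redA]

theorem redA_inclA {H : Subgroup G} (z : MonoidAlgebra ℂ H) :
    redA M (inclA H z) = incl H (AlgInt ⧸ M) (redA M z) := alg_ext fun y => by
  by_cases hy : y ∈ H
  · obtain ⟨y', rfl⟩ : ∃ y' : H, (y' : G) = y := ⟨⟨y, hy⟩, rfl⟩
    rw [coeff_redA, coeff_inclA, BrauerPairs.coeff_incl_coe, coeff_redA]
  · rw [coeff_redA, coeff_inclA_of_notMem _ hy, BrauerPairs.coeff_incl_of_notMem _ _ hy, red_zero]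

theorem redA_sum {ι : Type*} (s : Finset ι) {f : ι → MonoidAlgebra ℂ G}
    (hf : ∀ i ∈ s, SCoeff M (f i)) : redA M (∑ i ∈ s, f i) = ∑ i ∈ s, redA M (f i) :=
  alg_ext fun y => by
    rw [coeff_redA, coeff_sum, Finsupp.finsetSum_apply, coeff_sum, Finsupp.finsetSum_apply,
      red_sum _ fun i hi => hf i hi y]
    exact Finset.sum_congr rfl fun i _ => (coeff_redA _ _).symm

theorem redA_relTr {H : Subgroup G} {z : MonoidAlgebra ℂ G} (hz : SCoeff M z) :
    redA M (relTr H ⊤ z) = relTr H ⊤ (redA M z) := by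
  rw [relTr, relTr, redA_sum _ fun q _ => scoeff_conjEl hz _]
  exact Finset.sum_congr rfl fun q _ => redA_conjEl z _

theorem scoeff_relTr {H : Subgroup G} {z : MonoidAlgebra ℂ G} (hz : SCoeff M z) :
    SCoeff M (relTr H ⊤ z) := SCoeff.sum _ fun q _ => scoeff_conjEl hz _

theorem chiL_conjEl {χ : G → ℂ} (hχ : IsClassFunction G χ) (g : G) (z : MonoidAlgebra ℂ G) :
    chiL χ (conjEl g z) = chiL χ z := by
  rw [chiL_eq_sum, chiL_eq_sum]
  refine Fintype.sum_equiv (MulAut.conj g⁻¹).toEquiv _ _ fun y => ?_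
  simp only [coeff_conjEl, MulEquiv.toEquiv_eq_coe, MulEquiv.coe_toEquiv, MulAut.conj_apply, inv_inv]
  congr 1
  have h := hχ y g⁻¹
  rw [inv_inv] at h
  exact h.symm

theorem chiL_relTr {H : Subgroup G} {χ : G → ℂ} (hχ : IsClassFunction G χ) (z : MonoidAlgebra ℂ G) :
    chiL χ (relTr H ⊤ z) =
      (Nat.card ((⊤ : Subgroup G) ⧸ H.subgroupOf ⊤) : ℂ) * chiL χ z := by
  rw [relTr, chiL_sum]
  simp only [chiL_conjEl hχ, Finset.sum_const, nsmul_eq_mul, Finset.card_univ,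
    ← Nat.card_eq_fintype_card]

end Red

variable {P : Subgroup G} {σ τ : G} {M₀ : ℕ} {M : Ideal AlgInt} [M.IsMaximal]
  [Fact (Nat.Prime 2)] [CharP (AlgInt ⧸ M) 2] {B : Set (IrrCharacter G)}
  {e : MonoidAlgebra (AlgInt ⧸ M) G} (hD : DiData P σ τ M₀)
include hD

theorem isPGroup_rot (ha : IsMax 2 (blkG M B) (P, e)) : IsPGroup 2 (Subgroup.zpowers σ) :=
  ha.1.1.1.to_le (Subgroup.zpowers_le.2 hD.σ_mem)

theorem z_mem_centralizer_rot :
    σ ^ M₀ ∈ Subgroup.centralizer (Subgroup.zpowers σ : Set G) :=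
  Subgroup.mem_centralizer_iff.2 fun v hv => (hD.z_comm (hD.K_le hv)).symm

/-- An element of `P` of the order of `σ` generates the rotations. -/
theorem zpowers_eq_of_orderOf {y : G} (hy : y ∈ P) (ho : orderOf y = 2 * M₀) :
    Subgroup.zpowers y = Subgroup.zpowers σ := by
  have h2 := hD.two_le
  have hyK : y ∈ Subgroup.zpowers σ := by
    by_contra h
    have h1 := hD.refl_sq hy h
    have := Nat.le_of_dvd (by norm_num : 0 < 2)
      (orderOf_dvd_of_pow_eq_one (show y ^ 2 = 1 by rw [pow_two, h1]))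
    omega
  refine Subgroup.eq_of_le_of_card_ge (Subgroup.zpowers_le.2 hyK) ?_
  rw [Nat.card_zpowers, Nat.card_zpowers, ho, hD.order]

/-- The block at `z` has defect group `P`. -/
theorem defectIn_z (hB : IsPBlock M B) (ha : IsMax 2 (blkG M B) (P, e)) :
    DefectIn 2 (Subgroup.centralizer ({σ ^ M₀} : Set G)) (eU 2 P e (σ ^ M₀)) P := by
  obtain ⟨h1, h2⟩ := blkSet_spec (isBlockIdem_eU ha.1.1 hD.z_mem)
  have h := (BrauerPairs.isDefectGroup_subgroupOf_iff h1 fun v hv =>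
    Subgroup.mem_centralizer_singleton_iff.2 (hD.z_comm hv).symm).1
    (isDefectGroup_subgroupOf hB ha hD.z_mem fun v hv => hD.z_comm hv)
  rwa [h2] at h

/-- The cosets that survive `Br_⟨σ⟩` in `Tr_{C(z)}^G (z e_z)`. -/
theorem mem_centralizer_z_of_br (hB : IsPBlock M B) (ha : IsMax 2 (blkG M B) (P, e)) {q : G}
    (hq : q⁻¹ * σ * q ∈ Subgroup.centralizer ({σ ^ M₀} : Set G))
    (hne : br (Subgroup.zpowers σ) (conjEl q (eU 2 P e (σ ^ M₀))) ≠ 0) :
    q ∈ Subgroup.centralizer ({σ ^ M₀} : Set G) := by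
  have hne' : br (Subgroup.zpowers (q⁻¹ * σ * q)) (eU 2 P e (σ ^ M₀)) ≠ 0 := fun h0 => hne (by
    have h := congrArg (conjEl q) h0
    rw [BrauerPairs.conjEl_br, map_conj_zpowers, map_zero] at h
    rwa [show q * (q⁻¹ * σ * q) * q⁻¹ = σ by group] at h)
  have hp : IsPGroup 2 (Subgroup.zpowers (q⁻¹ * σ * q)) := by
    refine isPGroup_zpowers ?_
    obtain ⟨a, ha'⟩ := hD.exists_pow_two
    exact ⟨a, by rw [← ha']; simpa using MulEquiv.orderOf_eq (MulAut.conj q⁻¹) σ⟩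
  obtain ⟨h, hh, hle⟩ := (defectIn_z hD hB ha).2.2.2 _ hp (Subgroup.zpowers_le.2 hq) hne'
  rw [map_conj_zpowers, Subgroup.zpowers_le] at hle
  set y := h * (q⁻¹ * σ * q) * h⁻¹ with hy
  have hyo : orderOf y = 2 * M₀ := by
    rw [← hD.order, hy, show h * (q⁻¹ * σ * q) * h⁻¹ = MulAut.conj (h * q⁻¹) σ by simp [mul_assoc]]
    exact MulEquiv.orderOf_eq _ σ
  have hyK : y ∈ Subgroup.zpowers σ :=
    zpowers_eq_of_orderOf hD hle hyo ▸ Subgroup.mem_zpowers y
  have h2 := hD.two_le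
  have hyne : y ^ M₀ ≠ 1 := fun h' => by
    have := Nat.le_of_dvd (by omega) (orderOf_dvd_of_pow_eq_one h')
    omega
  have hyz : y ^ M₀ = σ ^ M₀ := by
    refine (hD.rot_sq (pow_mem hyK _) ?_).resolve_left hyne
    rw [← pow_add, ← two_mul, ← hyo, pow_orderOf_eq_one]
  have h3 : h * q⁻¹ ∈ Subgroup.centralizer ({σ ^ M₀} : Set G) := by
    rw [Subgroup.mem_centralizer_singleton_iff]
    have h4 : (h * q⁻¹) * σ ^ M₀ * (h * q⁻¹)⁻¹ = σ ^ M₀ := by
      rw [← conj_pow]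
      conv_rhs => rw [← hyz]
      congr 1
      rw [hy]; group
    exact mul_inv_eq_iff_eq_mul.1 h4
  simpa using mul_mem (inv_mem h3) hh

/-- The rotation block has cyclic defect group `⟨σ⟩`. -/
theorem mem_zpowers_of_br (hB : IsPBlock M B) (ha : IsMax 2 (blkG M B) (P, e)) {q : G}
    (hq : q⁻¹ * σ * q ∈ Subgroup.centralizer ({σ} : Set G))
    (hne : br (Subgroup.zpowers σ) (conjEl q (eU 2 P e σ)) ≠ 0) :
    Subgroup.zpowers (q⁻¹ * σ * q) = Subgroup.zpowers σ := by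
  have h2 := hD.two_le
  set y := q⁻¹ * σ * q with hy
  have hyo : orderOf y = 2 * M₀ := by
    rw [← hD.order]
    simpa [hy] using MulEquiv.orderOf_eq (MulAut.conj q⁻¹) σ
  have hne' : br (Subgroup.zpowers y) (eU 2 P e σ) ≠ 0 := fun h0 => hne (by
    have h := congrArg (conjEl q) h0
    rw [BrauerPairs.conjEl_br, map_conj_zpowers, map_zero] at h
    rwa [show q * y * q⁻¹ = σ by rw [hy]; group] at h)
  have hsupp : eU 2 P e σ ∈ suppIn (AlgInt ⧸ M)
      (Subgroup.centralizer (Subgroup.zpowers σ : Set G)) := by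
    rw [centralizer_zpowers_eq]
    exact (isBlockIdem_eU ha.1.1 hD.σ_mem).mem.1
  rw [← BrauerPairs.br_sup_eq (Subgroup.zpowers y) hsupp] at hne'
  have hyp : IsPGroup 2 (Subgroup.zpowers y) := by
    obtain ⟨a, ha'⟩ := hD.exists_pow_two
    exact isPGroup_zpowers ⟨a, by rw [hyo, ← hD.order, ha']⟩
  have hQC : Subgroup.zpowers σ ≤ Subgroup.centralizer ({σ} : Set G) :=
    Subgroup.zpowers_le.2 (Subgroup.mem_centralizer_singleton_iff.2 rfl)
  have hyC : Subgroup.zpowers y ≤ Subgroup.centralizer ({σ} : Set G) := Subgroup.zpowers_le.2 hq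
  have hS : IsPGroup 2 (Subgroup.zpowers σ ⊔ Subgroup.zpowers y : Subgroup G) :=
    (isPGroup_rot hD ha).to_sup_of_normal_left' hyp (hyC.trans
      (centralizer_zpowers_eq.ge.trans (Subgroup.centralizer_le_normalizer _)))
  obtain ⟨t, hle, hdef⟩ := BrauerPairs.exists_conj_defectIn_centralizer
    (fun L => hasBlocks M L) (isBlockIdem_blkG hB) ha (eU_spec ha.1.1 hD.σ_mem)
  rw [map_conj_zpowers] at hdef
  have hmem : t * σ * t⁻¹ ∈ P := by
    have h := hle.le
    rw [show (BrauerPairs.conjPair t (Subgroup.zpowers σ, eU 2 P e σ)).1 =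
      (Subgroup.zpowers σ).map (MulAut.conj t).toMonoidHom from rfl, map_conj_zpowers,
      Subgroup.zpowers_le] at h
    exact h
  have hto : orderOf (t * σ * t⁻¹) = 2 * M₀ := by
    rw [← hD.order]; exact MulEquiv.orderOf_eq (MulAut.conj t) σ
  have hzp := zpowers_eq_of_orderOf hD hmem hto
  have hcard : Nat.card
      (P ⊓ Subgroup.centralizer (Subgroup.zpowers (t * σ * t⁻¹) : Set G) : Subgroup G) = 2 * M₀ := by
    rw [hzp, centralizer_zpowers_eq]
    refine hD.inf_centralizer_rot (Subgroup.mem_zpowers σ) fun h => ?_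
    have := Nat.le_of_dvd (by norm_num : 0 < 2)
      (orderOf_dvd_of_pow_eq_one (show σ ^ 2 = 1 by rw [pow_two, h]))
    rw [hD.order] at this
    omega
  have hbound := hdef.card_le (hS.map (MulAut.conj t).toMonoidHom) (by
      rw [← map_conj_zpowers, ← BrauerPairs.map_conj_centralizer, centralizer_zpowers_eq]
      exact Subgroup.map_mono (sup_le hQC hyC)) (by
      rw [← BrauerPairs.conjEl_br]
      exact (map_ne_zero_iff _ (conjEl t).injective).2 hne')
  rw [BrauerPairs.card_map_conj, hcard] at hbound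
  have hE : Subgroup.zpowers σ ⊔ Subgroup.zpowers y = Subgroup.zpowers σ :=
    (Subgroup.eq_of_le_of_card_ge le_sup_left (by rwa [Nat.card_zpowers, hD.order])).symm
  refine Subgroup.eq_of_le_of_card_ge (hE ▸ le_sup_right) ?_
  rw [Nat.card_zpowers, Nat.card_zpowers, hyo, hD.order]

theorem z_mul_mem_fixedBy (ha : IsMax 2 (blkG M B) (P, e)) :
    single (σ ^ M₀) 1 * eU 2 P e (σ ^ M₀) ∈
      fixedBy (AlgInt ⧸ M) (Subgroup.centralizer ({σ ^ M₀} : Set G)) :=
  mul_mem (single_mem_fixedBy (fun _ hc => Subgroup.mem_centralizer_singleton_iff.1 hc) 1)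
    (isBlockIdem_eU ha.1.1 hD.z_mem).mem.2

/-- `Br_⟨σ⟩ Tr_{C(z)}^G (z e_z) = z Br_⟨σ⟩ e_z`. -/
theorem br_relTr_z (hB : IsPBlock M B) (ha : IsMax 2 (blkG M B) (P, e)) :
    br (Subgroup.zpowers σ) (relTr (Subgroup.centralizer ({σ ^ M₀} : Set G)) ⊤
        (single (σ ^ M₀) 1 * eU 2 P e (σ ^ M₀))) =
      single (σ ^ M₀) 1 * br (Subgroup.zpowers σ) (eU 2 P e (σ ^ M₀)) := by
  set H := Subgroup.centralizer ({σ ^ M₀} : Set G) with hH
  letI := Fintype.ofFinite ((⊤ : Subgroup G) ⧸ H.subgroupOf ⊤)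
  have ha0 := z_mul_mem_fixedBy hD ha
  rw [BrauerPairs.br_relTr (isPGroup_rot hD ha) le_top ha0,
    Finset.sum_eq_single ((1 : (⊤ : Subgroup G)) : (⊤ : Subgroup G) ⧸ H.subgroupOf ⊤)]
  · set q := (((1 : (⊤ : Subgroup G)) : (⊤ : Subgroup G) ⧸ H.subgroupOf ⊤).out : (⊤ : Subgroup G))
    have hqH : (q : G) ∈ H := by
      have := QuotientGroup.eq.1 (QuotientGroup.out_eq'
        ((1 : (⊤ : Subgroup G)) : (⊤ : Subgroup G) ⧸ H.subgroupOf ⊤))
      simpa [Subgroup.mem_subgroupOf] using this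
    rw [if_pos fun u hu => mul_mem (mul_mem (inv_mem hqH) (Subgroup.mem_centralizer_singleton_iff.2
        (hD.z_comm (hD.K_le hu)).symm)) hqH,
      ha0 _ hqH, br_single_mul (z_mem_centralizer_rot hD)]
  · intro q _ hq
    split_ifs with hcond
    · have hσ := hcond σ (Subgroup.mem_zpowers σ)
      rw [map_mul, conjEl_single, br_single_mul]
      · by_contra hne
        refine hq ?_
        have hqH := mem_centralizer_z_of_br hD hB ha hσ (fun h0 => hne (by rw [h0, mul_zero]))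
        conv_lhs => rw [← QuotientGroup.out_eq' q]
        refine QuotientGroup.eq.2 ?_
        simpa [Subgroup.mem_subgroupOf] using hqH
      · rw [Subgroup.mem_centralizer_iff]
        intro v hv
        have h1 := Subgroup.mem_centralizer_singleton_iff.1 (hcond v hv)
        calc v * ((q.out : G) * σ ^ M₀ * (q.out : G)⁻¹)
            = (q.out : G) * (((q.out : G)⁻¹ * v * q.out) * σ ^ M₀) * (q.out : G)⁻¹ := by group
          _ = (q.out : G) * (σ ^ M₀ * ((q.out : G)⁻¹ * v * q.out)) * (q.out : G)⁻¹ := by rw [h1]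
          _ = _ := by group
    · rfl
  · exact fun h => absurd (Finset.mem_univ _) h

/-- `(⟨z⟩, e_z)` lies below `(⟨σ⟩, e_σ)`. -/
theorem br_eU_mul_eU (ha : IsMax 2 (blkG M B) (P, e)) :
    br (Subgroup.zpowers σ) (eU 2 P e (σ ^ M₀)) * eU 2 P e σ = eU 2 P e σ := by
  have hblk : ∀ L : Subgroup G, BrauerPairs.HasBlocks (AlgInt ⧸ M) L := fun L => hasBlocks M L
  have hσ := eU_spec ha.1.1 hD.σ_mem
  obtain ⟨g, hg⟩ := BrauerPairs.exists_ple hblk (PLE.isPair_left hσ ha.1.1)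
    (Subgroup.zpowers (σ ^ M₀)) (Subgroup.zpowers_le.2 (pow_mem (Subgroup.mem_zpowers σ) _))
  rw [← eU_eq ha.1.1 hD.z_mem (Relation.ReflTransGen.trans hg hσ)] at hg
  have hs := PLE.step_of_le_normalizer hblk hg
    (PLE.isPair_left (eU_spec ha.1.1 hD.z_mem) ha.1.1) (fun v hv => by
      refine Subgroup.centralizer_le_normalizer _ ?_
      rw [centralizer_zpowers_eq]
      exact Subgroup.mem_centralizer_singleton_iff.2 (hD.z_comm (hD.K_le hv)).symm)
  exact hs.2.2.2.2.2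

theorem br_top_eU (ha : IsMax 2 (blkG M B) (P, e)) : br P (eU 2 P e (σ ^ M₀)) * e = e := by
  have hs := PLE.step_of_le_normalizer (fun L => hasBlocks M L) (eU_spec ha.1.1 hD.z_mem)
    (PLE.isPair_left (eU_spec ha.1.1 hD.z_mem) ha.1.1) (fun v hv => by
      refine Subgroup.centralizer_le_normalizer _ ?_
      rw [centralizer_zpowers_eq]
      exact Subgroup.mem_centralizer_singleton_iff.2 (hD.z_comm hv).symm)
  exact hs.2.2.2.2.2

/-- The central character of `Tr_{C(z)}^G (z e_z)` on `B` does not vanish. -/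
theorem omega_relTr_ne_zero (hB : IsPBlock M B) (ha : IsMax 2 (blkG M B) (P, e)) :
    BrauerPairs.omega (blkG M B) (relTr (Subgroup.centralizer ({σ ^ M₀} : Set G)) ⊤
      (single (σ ^ M₀) 1 * eU 2 P e (σ ^ M₀))) ≠ 0 := by
  set A := relTr (Subgroup.centralizer ({σ ^ M₀} : Set G)) ⊤
    (single (σ ^ M₀) 1 * eU 2 P e (σ ^ M₀)) with hA
  intro h0
  have hBi := isBlockIdem_blkG (M := M) hB
  have hAtop : A ∈ fixedBy (AlgInt ⧸ M) (⊤ : Subgroup G) :=
    BrauerPairs.relTr_mem_fixedBy (z_mul_mem_fixedBy hD ha)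
  have hAc : A ∈ BrauerPairs.centerIn (AlgInt ⧸ M) (⊤ : Subgroup G) :=
    ⟨fun x hx => absurd (Subgroup.mem_top x) hx, hAtop⟩
  obtain ⟨n, hn⟩ := (hBi.omega_eq_zero_iff hAc).1 h0
  have hAP : A ∈ fixedBy (AlgInt ⧸ M) P := BrauerPairs.fixedBy_anti le_top hAtop
  have hBP : blkG M B ∈ fixedBy (AlgInt ⧸ M) P := BrauerPairs.mem_fixedBy_of_top hBi.mem P
  have hzP : σ ^ M₀ ∈ Subgroup.centralizer (P : Set G) :=
    Subgroup.mem_centralizer_iff.2 fun v hv => (hD.z_comm hv).symm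
  have hbrA : br P A = single (σ ^ M₀) 1 * br P (eU 2 P e (σ ^ M₀)) := by
    rw [hA, ← BrauerPairs.br_br (Subgroup.zpowers_le.2 hD.σ_mem), br_relTr_z hD hB ha,
      br_single_mul hzP, BrauerPairs.br_br (Subgroup.zpowers_le.2 hD.σ_mem)]
  have hmul : br P (A * blkG M B) * e = single (σ ^ M₀) 1 * e := by
    rw [BrauerPairs.br_mul ha.1.1.1 hAP hBP, mul_assoc, ha.1.2, hbrA, mul_assoc, br_top_eU hD ha]
  have he : e * e = e := ha.1.1.2.idem
  have hesupp := ha.1.1.2.mem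
  have hc1 : Commute e (br P (A * blkG M B)) := (centerIn_commute hesupp.1
    (BrauerPairs.br_mem_fixedBy (mul_mem hAtop (BrauerPairs.mem_fixedBy_of_top hBi.mem ⊤))
      le_top (Subgroup.centralizer_le_normalizer _) :
      br P (A * blkG M B) ∈ fixedBy (AlgInt ⧸ M) (Subgroup.centralizer (P : Set G))))
  have hnil : IsNilpotent (br P (A * blkG M B) * e) := by
    refine ⟨n + 1, ?_⟩
    rw [hc1.symm.mul_pow, ← BrauerPairs.br_pow ha.1.1.1 (mul_mem hAP hBP), pow_succ _ n, hn,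
      zero_mul, map_zero, zero_mul]
  rw [hmul] at hnil
  have hc2 : Commute (single (σ ^ M₀) (1 : AlgInt ⧸ M)) e := commute_single_of_invariant (fun y =>
    BrauerPairs.mem_fixedBy_iff_coeff.1 hesupp.2 _ hzP y) |>.symm
  obtain ⟨m, hm⟩ := hnil
  refine ha.1.1.2.ne_zero ?_
  have hm' : (single (σ ^ M₀) (1 : AlgInt ⧸ M)) ^ (m + 1) * e = 0 := by
    rw [show e = e ^ (m + 1) by
      clear hm
      induction m with
      | zero => rw [pow_one]
      | succ m ih => rw [pow_succ, ← ih, he], ← hc2.mul_pow, pow_succ, hm, zero_mul]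
  rw [single_pow, one_pow] at hm'
  have := congrArg (single (((σ ^ M₀) ^ (m + 1))⁻¹) (1 : AlgInt ⧸ M) * ·) hm'
  simpa [← mul_assoc, single_mul_single, ← MonoidAlgebra.one_def] using this

omit hD in
theorem conj_blockCoeff {K : Type*} [Group K] [Finite K] (A : Set (IrrCharacter K)) (g : K) :
    conj (blockCoeff A g) = blockCoeff A g⁻¹ := by
  rw [blockCoeff_eq_sum, blockCoeff_eq_sum, map_mul, map_sum, map_inv₀, map_natCast]
  congr 1
  refine Finset.sum_congr rfl fun η _ => ?_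
  rw [map_mul, Complex.conj_conj, Char.IsCharacter.conj_apply (Char.irr_isCharacter η) g⁻¹, inv_inv,
    Char.apply_one_eq_degree, map_natCast]

omit hD in
/-- A regular class times a block idempotent has no coefficient off the regular elements. -/
theorem coeff_classSum_mul_blockIdem {K : Type*} [Group K] [Fintype K] (hpM : ((2 : ℕ) : AlgInt) ∈ M)
    {b : Set (IrrCharacter K)} (hb : IsPBlock M b) {r y : K} (hr : IsPRegular 2 r)
    (hy : ¬ IsPRegular 2 y) : (classSum ℂ r * blockIdem b).coeff y = 0 := by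
  rw [(IsCentralElt.commute (isCentralElt_classSum (R := ℂ) r) (blockIdem b)).eq, coeff_mul_eq_sum']
  have h := sum_class_blockCoeff (p := 2) hpM b y r
  have h0 : ∑ χ ∈ Finset.univ.filter (· ∈ b), χ.1 y * conj (χ.1 r) = 0 := by
    have h1 := congrArg conj (weak_orthogonality (p := 2) hpM hb hr hy)
    rw [map_sum, map_zero] at h1
    rw [← h1]
    exact Finset.sum_congr rfl fun χ _ => by rw [map_mul, Complex.conj_conj, mul_comm]
  rw [h0, mul_zero] at h
  have h2 := congrArg conj h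
  rw [map_sum, map_zero] at h2
  rw [← h2]
  refine Finset.sum_congr rfl fun k _ => ?_
  rw [coeff_blockIdem, coeff_classSum]
  split_ifs
  · rw [mul_one, conj_blockCoeff, mul_inv_rev, inv_inv]
  · rw [mul_zero, map_zero]

variable [NeZero (2 * M₀)] {f : IrrCharacter G → P → ℂ}

/-- The trace element at the central involution. -/
noncomputable def trZ (M : Ideal AlgInt) [M.IsMaximal] (P : Subgroup G)
    (e : MonoidAlgebra (AlgInt ⧸ M) G) (z : G) : MonoidAlgebra ℂ G :=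
  relTr (Subgroup.centralizer ({z} : Set G)) ⊤ (single z 1 *
    inclA (Subgroup.centralizer ({z} : Set G))
      (blockIdem (blkSet M (Subgroup.centralizer ({z} : Set G)) (eU 2 P e z))))

theorem scoeff_trZ_base (ha : IsMax 2 (blkG M B) (P, e)) :
    SCoeff M (single (σ ^ M₀) 1 * inclA (Subgroup.centralizer ({σ ^ M₀} : Set G))
      (blockIdem (blkSet M (Subgroup.centralizer ({σ ^ M₀} : Set G)) (eU 2 P e (σ ^ M₀))))) :=
  SCoeff.mul (scoeff_single _ memLocalRing_one)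
    (scoeff_inclA (scoeff_blockIdem (blkSet_spec (isBlockIdem_eU ha.1.1 hD.z_mem)).1))

theorem scoeff_trZ (ha : IsMax 2 (blkG M B) (P, e)) : SCoeff M (trZ M P e (σ ^ M₀)) :=
  scoeff_relTr (scoeff_trZ_base hD ha)

theorem redA_trZ (ha : IsMax 2 (blkG M B) (P, e)) :
    redA M (trZ M P e (σ ^ M₀)) = relTr (Subgroup.centralizer ({σ ^ M₀} : Set G)) ⊤
      (single (σ ^ M₀) 1 * eU 2 P e (σ ^ M₀)) := by
  obtain ⟨h1, h2⟩ := blkSet_spec (isBlockIdem_eU ha.1.1 hD.z_mem)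
  rw [trZ, redA_relTr (scoeff_trZ_base hD ha), redA_mul (scoeff_single _ memLocalRing_one)
    (scoeff_inclA (scoeff_blockIdem h1)), redA_single, red_one, redA_inclA]
  exact congrArg _ (congrArg _ h2)

theorem isCentralElt_trZ : IsCentralElt (trZ M P e (σ ^ M₀)) := by
  have h : trZ M P e (σ ^ M₀) ∈ fixedBy ℂ (⊤ : Subgroup G) := by
    refine BrauerPairs.relTr_mem_fixedBy (mul_mem
      (single_mem_fixedBy (fun _ hc => Subgroup.mem_centralizer_singleton_iff.1 hc) 1) ?_)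
    refine BrauerPairs.mem_fixedBy_iff_coeff.2 fun c hc y => ?_
    by_cases hy : y ∈ Subgroup.centralizer ({σ ^ M₀} : Set G)
    · obtain ⟨y', rfl⟩ : ∃ y' : Subgroup.centralizer ({σ ^ M₀} : Set G), (y' : G) = y :=
        ⟨⟨y, hy⟩, rfl⟩
      rw [show c * (y' : G) * c⁻¹ = ((⟨c, hc⟩ * y' * ⟨c, hc⟩⁻¹ :
        Subgroup.centralizer ({σ ^ M₀} : Set G)) : G) from rfl, coeff_inclA, coeff_inclA]
      exact isCentralElt_blockIdem _ y' ⟨c, hc⟩
    · rw [coeff_inclA_of_notMem _ hy, coeff_inclA_of_notMem]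
      exact fun h' => hy (by simpa [mul_assoc] using mul_mem (mul_mem (inv_mem hc) h') hc)
  exact fun g k => BrauerPairs.mem_fixedBy_iff_coeff.1 h k (Subgroup.mem_top k) g

theorem memLocalIdeal_structD_aux (hpM : ((2 : ℕ) : AlgInt) ∈ M) (hB : IsPBlock M B)
    (ha : IsMax 2 (blkG M B) (P, e)) (hC : CentralData M 2 P e (σ ^ M₀) f) (h4 : 4 ≤ M₀)
    {C : Subgroup G} (hCd : C = Subgroup.centralizer ({σ} : Set G))
    {b : Set (IrrCharacter C)} (hb : IsPBlock M b) (hbe : blk M C b = eU 2 P e σ)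
    {r : C} (hr : IsPRegular 2 r) :
    MemLocalIdeal M (structD (trZ M P e (σ ^ M₀)) σ b r) := by
  set E := eU 2 P e σ with hE
  have hE' : incl C (AlgInt ⧸ M) (redA M (blockIdem b)) = E := hbe
  have hEblk : IsBlockIdem C E := hCd ▸ isBlockIdem_eU ha.1.1 hD.σ_mem
  have hQ := isPGroup_rot hD ha
  have hCQ : Subgroup.centralizer (Subgroup.zpowers σ : Set G) = C :=
    centralizer_zpowers_eq.trans hCd.symm
  have hmemC : ∀ c : G, c ∈ C ↔ c * σ = σ * c := fun c => by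
    rw [hCd, Subgroup.mem_centralizer_singleton_iff]
  have hσC : σ ∈ C := (hmemC σ).2 rfl
  have hQC : Subgroup.zpowers σ ≤ C := Subgroup.zpowers_le.2 hσC
  set A := relTr (Subgroup.centralizer ({σ ^ M₀} : Set G)) ⊤
    (single (σ ^ M₀) 1 * eU 2 P e (σ ^ M₀)) with hA
  have hAtop : A ∈ fixedBy (AlgInt ⧸ M) (⊤ : Subgroup G) :=
    BrauerPairs.relTr_mem_fixedBy (z_mul_mem_fixedBy hD ha)
  set K : MonoidAlgebra (AlgInt ⧸ M) G := incl C (AlgInt ⧸ M) (classSum (AlgInt ⧸ M) r) with hK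
  have hKc : K ∈ BrauerPairs.centerIn (AlgInt ⧸ M) C :=
    BrauerPairs.incl_mem_centerIn C fun g h => isCentralElt_classSum r g h
  have hsσ : single σ (1 : AlgInt ⧸ M) ∈ fixedBy (AlgInt ⧸ M) C :=
    single_mem_fixedBy (fun c hc => (hmemC c).1 hc) 1
  set W := E * (K * single σ 1) with hWd
  have hW : W ∈ fixedBy (AlgInt ⧸ M) C := mul_mem hEblk.mem.2 (mul_mem hKc.2 hsσ)
  have hWred : redA M (inclA C (blockIdem b * classSum ℂ r) * single σ 1) = W := by
    rw [redA_mul (scoeff_inclA (SCoeff.mul (scoeff_blockIdem hb) (scoeff_classSum r)))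
      (scoeff_single _ memLocalRing_one), redA_inclA, redA_mul (scoeff_blockIdem hb)
      (scoeff_classSum r), redA_classSum, map_mul, hE', redA_single, red_one, mul_assoc]
  have hS : ∀ q : G ⧸ C, SCoeff M (trZ M P e (σ ^ M₀) *
      conjEl q.out (inclA C (blockIdem b * classSum ℂ r) * single σ 1) * inclA C (blockIdem b)) :=
    fun q => SCoeff.mul (SCoeff.mul (scoeff_trZ hD ha) (scoeff_conjEl
      (SCoeff.mul (scoeff_inclA (SCoeff.mul (scoeff_blockIdem hb) (scoeff_classSum r)))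
        (scoeff_single _ memLocalRing_one)) _)) (scoeff_inclA (scoeff_blockIdem hb))
  unfold structD
  refine (red_eq_zero_iff (MemLocalRing.sum Finset.univ fun q _ => hS q (σ * (r : G)))).1 ?_
  rw [red_sum Finset.univ fun q _ => hS q (σ * (r : G))]
  let F : G → AlgInt ⧸ M := fun g => (A * conjEl g W * E).coeff (σ * (r : G))
  have hF : ∀ q : G ⧸ C, red M ((trZ M P e (σ ^ M₀) *
      conjEl q.out (inclA C (blockIdem b * classSum ℂ r) * single σ 1) *
        inclA C (blockIdem b)).coeff (σ * (r : G))) = F q.out := by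
    intro q
    rw [← coeff_redA, redA_mul (SCoeff.mul (scoeff_trZ hD ha) (scoeff_conjEl
      (SCoeff.mul (scoeff_inclA (SCoeff.mul (scoeff_blockIdem hb) (scoeff_classSum r)))
        (scoeff_single _ memLocalRing_one)) _)) (scoeff_inclA (scoeff_blockIdem hb)),
      redA_mul (scoeff_trZ hD ha) (scoeff_conjEl
      (SCoeff.mul (scoeff_inclA (SCoeff.mul (scoeff_blockIdem hb) (scoeff_classSum r)))
        (scoeff_single _ memLocalRing_one)) _), redA_trZ hD ha, redA_conjEl, hWred, redA_inclA, hE']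
  rw [Finset.sum_congr rfl fun q _ => hF q]
  have hrC : (r : G) * σ = σ * (r : G) := (hmemC r).1 r.2
  have hσr : σ * (r : G) ∈ C := mul_mem hσC r.2
  have hinv : ∀ (u : Subgroup.zpowers σ) (q : G ⧸ C), F (u • q).out = F q.out := by
    intro u q
    obtain ⟨c, hc⟩ := QuotientGroup.mk_out_eq_mul C ((u : G) * q.out)
    have hq : (u • q : G ⧸ C) = (((u : G) * q.out : G) : G ⧸ C) := by
      conv_lhs => rw [← QuotientGroup.out_eq' q]
      rfl
    rw [hq, hc]
    show (A * conjEl ((u : G) * q.out * (c : G)) W * E).coeff _ = _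
    rw [conjEl_mul, hW _ c.2, conjEl_mul,
      ← hAtop (u : G) (Subgroup.mem_top _), ← hEblk.mem.2 (u : G) (hQC u.2), ← map_mul, ← map_mul,
      coeff_conjEl]
    show (A * conjEl q.out W * E).coeff _ = _
    congr 1
    obtain ⟨i, hi⟩ := u.2
    have hu : Commute (u : G) (σ * (r : G)) := by
      rw [← hi]
      exact (show Commute σ (σ * (r : G)) from ((hmemC _).1 hσr).symm).zpow_left i
    rw [mul_assoc, hu.symm.eq, inv_mul_cancel_left]
  rw [BrauerPairs.sum_eq_sum_fixed hQ (fun q : G ⧸ C => F q.out) hinv]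
  refine Finset.sum_eq_zero fun q _ => ?_
  split_ifs with hfix
  swap
  · rfl
  set g := q.out with hg
  have hσg : g⁻¹ * σ * g ∈ C := by
    have h1 := hfix ⟨σ, Subgroup.mem_zpowers σ⟩
    have h2 : ((σ * g : G) : G ⧸ C) = (g : G ⧸ C) := by
      rw [hg]
      conv_rhs => rw [QuotientGroup.out_eq', ← h1]
      conv_rhs => rw [← QuotientGroup.out_eq' q]
      rfl
    have h3 := QuotientGroup.eq.1 h2.symm
    simpa [mul_assoc] using h3
  have hgQ : ∀ u ∈ Subgroup.zpowers σ, g⁻¹ * u * g ∈ C := by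
    rintro u ⟨i, rfl⟩
    have h := zpow_mem hσg i
    rwa [show (g⁻¹ * σ * g) ^ i = g⁻¹ * σ ^ i * g by
      simpa using (conj_zpow (a := g⁻¹) (b := σ) (i := i))] at h
  have hAQ : A ∈ fixedBy (AlgInt ⧸ M) (Subgroup.zpowers σ) :=
    BrauerPairs.fixedBy_anti le_top hAtop
  have hEQ : E ∈ fixedBy (AlgInt ⧸ M) (Subgroup.zpowers σ) :=
    BrauerPairs.fixedBy_anti hQC hEblk.mem.2
  have hcE := conjEl_mem_fixedBy_of hEblk.mem.2 hgQ
  have hcX := conjEl_mem_fixedBy_of (mul_mem hKc.2 hsσ) hgQ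
  have hbrE : br (Subgroup.zpowers σ) E = E :=
    BrauerPairs.br_eq_self fun y hy => hEblk.mem.1 y (by rwa [← hCQ])
  show (A * conjEl g W * E).coeff (σ * (r : G)) = 0
  rw [← BrauerPairs.coeff_br_of_mem (P := Subgroup.zpowers σ) _ (by rw [hCQ]; exact hσr), hWd,
    map_mul (conjEl g), BrauerPairs.br_mul hQ (mul_mem hAQ (mul_mem hcE hcX)) hEQ,
    BrauerPairs.br_mul hQ hAQ (mul_mem hcE hcX), BrauerPairs.br_mul hQ hcE hcX, hbrE,
    hA, br_relTr_z hD hB ha]
  by_cases hne : br (Subgroup.zpowers σ) (conjEl g E) = 0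
  · simp [hne]
  have hzp := mem_zpowers_of_br hD hB ha (hCd ▸ hσg) hne
  have hmapQ : (Subgroup.zpowers σ).map (MulAut.conj g).toMonoidHom = Subgroup.zpowers σ := by
    conv_lhs => rw [← hzp]
    rw [map_conj_zpowers, show g * (g⁻¹ * σ * g) * g⁻¹ = σ by group]
  have hmapC : C.map (MulAut.conj g).toMonoidHom = C := by
    rw [← hCQ, BrauerPairs.map_conj_centralizer, hmapQ]
  have hx'mem : g * σ * g⁻¹ ∈ Subgroup.zpowers σ := by
    rw [← hmapQ, map_conj_zpowers]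
    exact Subgroup.mem_zpowers _
  have hE2 : IsBlockIdem C (conjEl g E) := by
    have h := hEblk.conj g
    rwa [hmapC] at h
  have hrr : g * (r : G) * g⁻¹ ∈ C :=
    hmapC.le (Subgroup.mem_map_of_mem (MulAut.conj g).toMonoidHom r.2)
  obtain ⟨r', hr'⟩ : ∃ r' : C, (r' : G) = g * r * g⁻¹ := ⟨⟨_, hrr⟩, rfl⟩
  set x' := g * σ * g⁻¹ with hx'
  set K' : MonoidAlgebra (AlgInt ⧸ M) G := incl C (AlgInt ⧸ M) (classSum (AlgInt ⧸ M) r') with hK'
  have hX : conjEl g (K * single σ 1) = K' * single x' 1 := by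
    rw [map_mul (conjEl g), conjEl_single, hK, conjEl_incl_classSum hmapC r r' hr']
  have hXsupp : K' * single x' (1 : AlgInt ⧸ M) ∈ suppIn (AlgInt ⧸ M) C := by
    refine mul_mem (fun y hy => BrauerPairs.coeff_incl_of_notMem _ _ hy) fun y hy => ?_
    rw [coeff_single, Finsupp.single_apply, if_neg]
    rintro rfl
    exact hy (hQC hx'mem)
  rw [hX, BrauerPairs.br_eq_self (P := Subgroup.zpowers σ) (a := K' * single x' 1)
      (fun y hy => hXsupp y (by rwa [← hCQ])),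
    BrauerPairs.br_eq_self (P := Subgroup.zpowers σ) (a := conjEl g E)
      (fun y hy => hE2.mem.1 y (by rwa [← hCQ]))]
  by_cases hstab : conjEl g E = E
  swap
  · rw [← centerIn_commute hXsupp hE2.mem.2, mul_assoc, mul_assoc (K' * _),
      BrauerPairs.IsBlockIdem.mul_eq_zero_of_ne hEblk hE2 (Ne.symm hstab)]
    simp
  rw [hstab, ← mul_assoc, mul_assoc (single (σ ^ M₀) 1), br_eU_mul_eU hD ha,
    mul_assoc (single (σ ^ M₀) 1), mul_assoc (single (σ ^ M₀) 1),
    ← centerIn_commute hXsupp hEblk.mem.2, mul_assoc _ E E, hEblk.idem]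
  -- the rotation is fixed or inverted
  have hconj : x' = σ ∨ x' = σ⁻¹ := by
    obtain ⟨n, hn⟩ := (isOfFinOrder_of_finite σ).mem_powers_iff_mem_zpowers.2 hx'mem
    have h1 : (rot hD 1 : G) = σ := by
      rw [coe_rot, show (1 : ZMod (2 * M₀)) = ((1 : ℕ) : ZMod (2 * M₀)) by simp,
        ZMod.val_natCast_of_lt (by omega), pow_one]
    have hl : (rot hD (n : ZMod (2 * M₀)) : G) = x' := by
      rw [coe_rot, ZMod.val_natCast, ← hn]
      exact hD.pow_eq_pow.2 (Nat.mod_modEq _ _)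
    have hone : (1 : ZMod (2 * M₀)) ≠ 0 := fun h => by
      have h' := rot_ne_one hD (i := 1)
      rw [show (rot hD 1 : G) = (rot hD 0 : G) by rw [h], rot_zero] at h1
      have := hD.order
      rw [← h1] at this
      simp at this
      omega
    rcases conj_rot_eq hC hD hone (g := g) (l := (n : ZMod (2 * M₀))) (by rw [h1, hl]) (by
        rw [h1, hl, ← hE, hstab]
        exact (eU_congr ha.1.1 hD.σ_mem (hD.K_le hx'mem)
          (by rw [← map_conj_zpowers, hmapQ])).symm) with h | h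
    · exact Or.inl (by rw [← hl, h, h1])
    · exact Or.inr (by rw [← hl, h, rot_neg, Subgroup.coe_inv, h1])
  have hcomm : Commute (single x' (1 : AlgInt ⧸ M)) E :=
    centerIn_commute (fun y hy => by
      rw [coeff_single, Finsupp.single_apply, if_neg]
      rintro rfl
      exact hy (hQC hx'mem)) hEblk.mem.2
  rw [mul_assoc K', hcomm.eq, ← mul_assoc K', coeff_single_mul', coeff_mul_single', one_mul,
    mul_one, hK', ← hE', ← redA_classSum, ← map_mul, ← redA_mul (scoeff_classSum r')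
      (scoeff_blockIdem hb)]
  -- the translate is singular
  set m := (σ ^ M₀)⁻¹ * σ * x'⁻¹ with hm
  have hmQ : m ∈ Subgroup.zpowers σ :=
    mul_mem (mul_mem (inv_mem (pow_mem (Subgroup.mem_zpowers σ) _)) (Subgroup.mem_zpowers σ))
      (inv_mem hx'mem)
  have hne1 : m ≠ 1 := by
    have h2 := hD.two_le
    intro h
    rcases hconj with e | e
    · rw [hm, e, mul_inv_cancel_right, inv_eq_one] at h
      exact hD.z_ne h
    · rw [hm, e, inv_inv, mul_assoc, inv_mul_eq_one, ← pow_two, hD.pow_eq_pow, Nat.ModEq,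
        Nat.mod_eq_of_lt (by omega), Nat.mod_eq_of_lt (by omega)] at h
      omega
  have hy : (σ ^ M₀)⁻¹ * (σ * (r : G)) * x'⁻¹ = m * (r : G) := by
    obtain ⟨i, hi⟩ := inv_mem hx'mem
    have hc : Commute (r : G) x'⁻¹ := by
      rw [← hi]; exact (show Commute (r : G) σ from hrC).zpow_right i
    rw [hm, mul_assoc _ x'⁻¹, ← hc.eq]
    group
  rw [hy, show m * (r : G) = ((⟨m, hQC hmQ⟩ * r : C) : G) from rfl, BrauerPairs.coeff_incl_coe,
    coeff_redA, coeff_classSum_mul_blockIdem hpM hb, red_zero]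
  · rw [IsPRegular, show r' = ⟨g * (r : G) * g⁻¹, hrr⟩ from Subtype.ext hr', ← Subgroup.orderOf_coe]
    rw [IsPRegular, ← Subgroup.orderOf_coe] at hr
    rwa [show orderOf (g * (r : G) * g⁻¹) = orderOf (r : G) from MulEquiv.orderOf_eq (MulAut.conj g) _]
  · intro hreg
    obtain ⟨i, hi⟩ := id hmQ
    have hmo : ∃ k, orderOf (⟨m, hQC hmQ⟩ : C) = 2 ^ k := by
      obtain ⟨k, hk⟩ := exists_orderOf_mem hQ hmQ
      exact ⟨k, by rw [← Subgroup.orderOf_coe]; exact hk⟩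
    have hcc : Commute (⟨m, hQC hmQ⟩ : C) r := Subtype.ext (by
      show m * (r : G) = r * m
      rw [← hi]
      exact ((show Commute (r : G) σ from hrC).zpow_right i).eq.symm)
    have hp1 := isPPart_mul hcc hmo hr
    have hreg' : IsPPart 2 ((⟨m, hQC hmQ⟩ : C) * r) 1 :=
      ⟨(⟨m, hQC hmQ⟩ : C) * r, one_mul _, Commute.one_left _, ⟨0, by rw [orderOf_one, pow_zero]⟩, hreg⟩
    have h1 := IsPPart.unique hp1 hreg'
    exact hne1 (congrArg Subtype.val h1)

theorem memLocalIdeal_structD (hpM : ((2 : ℕ) : AlgInt) ∈ M) (hB : IsPBlock M B)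
    (ha : IsMax 2 (blkG M B) (P, e)) (hC : CentralData M 2 P e (σ ^ M₀) f) (h4 : 4 ≤ M₀)
    {r : Subgroup.centralizer ({σ} : Set G)} (hr : IsPRegular 2 r) :
    MemLocalIdeal M (structD (trZ M P e (σ ^ M₀)) σ
      (blkSet M (Subgroup.centralizer ({σ} : Set G)) (eU 2 P e σ)) r) :=
  memLocalIdeal_structD_aux hD hpM hB ha hC h4 rfl (blkSet_spec (isBlockIdem_eU ha.1.1 hD.σ_mem)).1
    (blkSet_spec (isBlockIdem_eU ha.1.1 hD.σ_mem)).2 hr

theorem omega_trZ (χ : IrrCharacter G) :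
    omega χ.1 (trZ M P e (σ ^ M₀)) =
      (Nat.card ((⊤ : Subgroup G) ⧸
        (Subgroup.centralizer ({σ ^ M₀} : Set G)).subgroupOf ⊤) : ℂ) *
        etaF (σ ^ M₀) (blkSet M (Subgroup.centralizer ({σ ^ M₀} : Set G)) (eU 2 P e (σ ^ M₀))) χ.1 1 /
      χ.1 1 := by
  rw [omega, trZ, chiL_relTr (irr_classFun χ), chiL_mul_comm (irr_classFun χ), etaF]
  simp

/-- The central character of the trace element is proportional to the value at `z`. -/
theorem exists_omega_trZ (hpM : ((2 : ℕ) : AlgInt) ∈ M) (hB : IsPBlock M B)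
    (ha : IsMax 2 (blkG M B) (P, e)) (hC : CentralData M 2 P e (σ ^ M₀) f) {ψ : IrrCharacter G}
    (hψ : gv f hD ψ (M₀ : ZMod (2 * M₀)) ≠ 0) :
    ∃ T : ℂ, ∀ χ : IrrCharacter G, omega χ.1 (trZ M P e (σ ^ M₀)) =
      T * gv f hD χ (M₀ : ZMod (2 * M₀)) / χ.1 1 := by
  set n : ℂ := (Nat.card ((⊤ : Subgroup G) ⧸
    (Subgroup.centralizer ({σ ^ M₀} : Set G)).subgroupOf ⊤) : ℂ)
  refine ⟨n * etaF (σ ^ M₀) (blkSet M (Subgroup.centralizer ({σ ^ M₀} : Set G))
    (eU 2 P e (σ ^ M₀))) ψ.1 1 / gv f hD ψ (M₀ : ZMod (2 * M₀)), fun χ => ?_⟩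
  have h2 := hD.two_le
  have hs : ∀ φ φ' : IrrCharacter G, ((4 * M₀ : ℕ) : ℂ) *
      sectF 2 (Subgroup.centralizer ({σ ^ M₀} : Set G)) (σ ^ M₀)
        (blkSet M (Subgroup.centralizer ({σ ^ M₀} : Set G)) (eU 2 P e (σ ^ M₀))) φ.1 φ'.1 =
      gv f hD φ (M₀ : ZMod (2 * M₀)) * conj (gv f hD φ' (M₀ : ZMod (2 * M₀))) := fun φ φ' => by
    have h := sectF_rot (M := M) hC hD (half_ne_zero hD) φ φ'
    rw [rot_half hD, hD.inf_centralizer_z] at h
    rw [h, conj_gv hC hD]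
  have hp := etaF_proportional (p := 2) (x := σ ^ M₀)
    (H := Subgroup.centralizer ({σ ^ M₀} : Set G)) hpM
    (Subgroup.mem_centralizer_singleton_iff.2 rfl)
    (fun s hs => (Subgroup.mem_centralizer_singleton_iff.1 hs).symm)
    (blkSet_spec (isBlockIdem_eU ha.1.1 hD.z_mem)).1
    (c := ((4 * M₀ : ℕ) : ℂ)) (Nat.cast_ne_zero.2 (by omega))
    (fun φ => gv f hD φ (M₀ : ZMod (2 * M₀))) hs χ ψ
    (s := 1) (by simp [IsPRegular])
  have hp' : etaF (σ ^ M₀) (blkSet M (Subgroup.centralizer ({σ ^ M₀} : Set G))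
      (eU 2 P e (σ ^ M₀))) χ.1 1 = gv f hD χ (M₀ : ZMod (2 * M₀)) * etaF (σ ^ M₀)
      (blkSet M (Subgroup.centralizer ({σ ^ M₀} : Set G)) (eU 2 P e (σ ^ M₀))) ψ.1 1 /
      gv f hD ψ (M₀ : ZMod (2 * M₀)) := by
    rw [← hp, mul_div_cancel_left₀ _ hψ]
  rw [omega_trZ hD χ, hp']
  ring

/-- The structure sum on the rotation subsection vanishes modulo `M`. -/
theorem memLocalIdeal_sum_omega_trZ (hpM : ((2 : ℕ) : AlgInt) ∈ M) (hB : IsPBlock M B)
    (ha : IsMax 2 (blkG M B) (P, e)) (hC : CentralData M 2 P e (σ ^ M₀) f) (h4 : 4 ≤ M₀) :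
    MemLocalIdeal M (∑ χ ∈ Finset.univ.filter (· ∈ B), omega χ.1 (trZ M P e (σ ^ M₀)) *
      (gv f hD χ 1 * gv f hD χ 1 / ((2 * M₀ : ℕ) : ℂ))) := by
  have h2 := hD.two_le
  have hx : (rot hD 1 : G) = σ := by
    rw [coe_rot, show (1 : ZMod (2 * M₀)) = ((1 : ℕ) : ZMod (2 * M₀)) by simp,
      ZMod.val_natCast_of_lt (by omega), pow_one]
  have hone : (1 : ZMod (2 * M₀)) ≠ 0 := fun h => by
    have h' := congrArg ZMod.val h
    rw [show (1 : ZMod (2 * M₀)) = ((1 : ℕ) : ZMod (2 * M₀)) by simp,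
      ZMod.val_natCast_of_lt (by omega), ZMod.val_zero] at h'
    omega
  obtain ⟨k, hk⟩ := hD.exists_pow_two
  have hsum := sum_omega_sectF (p := 2) (x := σ) hpM ⟨k, hk⟩
    (isInducedBlock_eU hpM hB ha.1 hD.σ_mem) (isCentralElt_trZ hD (M := M) (e := e))
  have hterm : ∀ χ : IrrCharacter G, gv f hD χ 1 * gv f hD χ 1 / ((2 * M₀ : ℕ) : ℂ) =
      sectF 2 (Subgroup.centralizer ({σ} : Set G)) σ
        (blkSet M (Subgroup.centralizer ({σ} : Set G)) (eU 2 P e σ)) χ.1 χ.1 := by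
    intro χ
    have h := sectF_rot (M := M) hC hD hone χ χ
    rw [hx, hD.inf_centralizer_rot (Subgroup.mem_zpowers σ) fun h' => ?_] at h
    · rw [← h, mul_div_cancel_left₀ _ (Nat.cast_ne_zero.2 (NeZero.ne _))]
    · have := Nat.le_of_dvd (by norm_num : 0 < 2)
        (orderOf_dvd_of_pow_eq_one (show σ ^ 2 = 1 by rw [pow_two, h']))
      rw [hD.order] at this
      omega
  rw [Finset.sum_congr rfl fun χ _ => by rw [hterm χ], hsum]
  refine MemLocalIdeal.sum _ fun C _ => ?_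
  split_ifs with hCr
  · exact memLocalIdeal_structD hD hpM hB ha hC h4 hCr
  · exact memLocalIdeal_zero

omit hD in
/-- The arithmetic of the exceptional configuration. -/
theorem spur_sum {ι : Type*} [Fintype ι] {J : Type*} {w : J → ι → ℤ} {ε : J → ℤ} {X Y : ι → ℤ}
    (h : Spur w ε X Y) (n : ι → ℂ) (hn : ∀ y, n y ≠ 0) (hX : ∑ y, n y * X y = 0)
    (hY : ∑ y, n y * Y y = 0) (hw : ∀ m, ∑ y, n y * w m y = 0) {t δ T : ℂ} (ht : t * t = 2)
    (hδ : δ * δ = 1) {j l : J} (hj : ε j = 1) (hl : ε l = -1) :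
    ∃ x, ∑ y, T * ((X y + Y y + 2 * (w j y - w l y) : ℤ) : ℂ) / n y *
        ((δ * ((X y : ℂ) - Y y) + (w l y : ℂ) * t) * (δ * ((X y : ℂ) - Y y) + (w l y : ℂ) * t)) =
      8 / 3 * (T * ((X x + Y x + 2 * (w j x - w l x) : ℤ) : ℂ) / n x) := by
  obtain ⟨j', l', c, o, o', p, q, s, α, β, π, ρ, ⟨hj', hl', hall⟩, hF, ⟨hs, hα, hβ, hπ, hρ⟩,
    ⟨X1, X2, X3, X4, X5⟩, ⟨Y1, Y2, Y3, Y4, Y5⟩, hwj, hwl⟩ := h
  obtain rfl : j = j' := (hall j).resolve_right fun e => by rw [e, hl'] at hj; omega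
  obtain rfl : l = l' := (hall l).resolve_left fun e => by rw [e, hj'] at hl; omega
  obtain ⟨u1, u2, u3, u4, u5⟩ := hwj
  obtain ⟨v1, v2, v3, v4, v5⟩ := hwl
  have eX := hX
  have eY := hY
  have eu := hw j
  have ev := hw l
  rw [hF] at eX eY eu ev
  simp only [X1, X2, X3, X4, X5, Y1, Y2, Y3, Y4, Y5, u1, u2, u3, u4, u5, v1, v2, v3, v4, v5,
    Int.cast_zero, mul_zero, add_zero, zero_add] at eX eY eu ev
  refine ⟨c, ?_⟩
  rw [hF]
  simp only [X1, X2, X3, X4, X5, Y1, Y2, Y3, Y4, Y5, u1, u2, u3, u4, u5, v1, v2, v3, v4, v5]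
  push_cast
  have hs' : (s : ℂ) * s = 1 := by exact_mod_cast hs
  have hα' : (α : ℂ) * α = 1 := by exact_mod_cast hα
  have hβ' : (β : ℂ) * β = 1 := by exact_mod_cast hβ
  have hπ' : (π : ℂ) * π = 1 := by exact_mod_cast hπ
  have hρ' : (ρ : ℂ) * ρ = 1 := by exact_mod_cast hρ
  set k : ℂ := n c * s with hk
  have hnc : n c = k * s := by rw [hk, mul_assoc, hs', mul_one]
  have hno : n o = -k * α := by linear_combination (α : ℂ) * eu - n o * hα'
  have hno' : n o' = -k * β := by linear_combination (β : ℂ) * ev - n o' * hβ'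
  have hnp : n p = 2 * k * π := by
    linear_combination (π : ℂ) * eY - (π : ℂ) * eu - (π : ℂ) * ev - n p * hπ'
  have hnq : n q = -3 * k * ρ := by
    linear_combination (ρ : ℂ) * eX - (ρ : ℂ) * eY + (ρ : ℂ) * eu + (ρ : ℂ) * ev - n q * hρ'
  have hk0 : k ≠ 0 := fun h0 => hn c (by rw [hnc, h0, zero_mul])
  have hs0 : (s : ℂ) ≠ 0 := fun h0 => by simp [h0] at hs'
  have hα0 : (α : ℂ) ≠ 0 := fun h0 => by simp [h0] at hα'
  have hβ0 : (β : ℂ) ≠ 0 := fun h0 => by simp [h0] at hβ'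
  have hπ0 : (π : ℂ) ≠ 0 := fun h0 => by simp [h0] at hπ'
  have hρ0 : (ρ : ℂ) ≠ 0 := fun h0 => by simp [h0] at hρ'
  rw [hnc, hno, hno', hnp, hnq]
  have e1 : ∀ a v : ℂ, a ≠ 0 → a * a = 1 → v * a / (k * a) = v / k := fun a v ha0 _ =>
    mul_div_mul_right v k ha0
  have r1 : T * ((s : ℂ) + 0 + 2 * ((s : ℂ) - s)) / (k * s) = T / k := by
    rw [show T * ((s : ℂ) + 0 + 2 * ((s : ℂ) - s)) = T * s by ring, e1 _ _ hs0 hs']
  have r2' : T * (0 + (α : ℂ) + 2 * ((α : ℂ) - 0)) / (-k * α) = 3 * T * (α : ℂ) / (-(k * α)) := by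
    congr 1 <;> ring
  have r3 : T * (0 + (β : ℂ) + 2 * (0 - (β : ℂ))) / (-k * β) = T / k := by
    rw [show T * (0 + (β : ℂ) + 2 * (0 - (β : ℂ))) = -(T * β) by ring,
      show -k * (β : ℂ) = -(k * β) by ring, neg_div_neg_eq, e1 _ _ hβ0 hβ']
  have r5 : T * ((ρ : ℂ) + 0 + 0) / (-3 * k * ρ) = -T / (3 * k) := by
    rw [show T * ((ρ : ℂ) + 0 + 0) = T * ρ by ring,
      show -3 * k * (ρ : ℂ) = -(3 * k * ρ) by ring, div_neg, mul_div_mul_right T (3 * k) hρ0,
      neg_div]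
  rw [show T * (0 + (α : ℂ) + 2 * ((α : ℂ) - 0)) / (-k * α) = -(3 * T / k) by
    rw [r2']; rw [div_neg, e1 _ _ hα0 hα']] at *
  rw [r1, r3, r5]
  linear_combination (T / k) * (δ + t) * (δ + t) * hs' - 3 * (T / k) * δ * δ * hα' +
    (T / k) * (t - δ) * (t - δ) * hβ' - (T / (3 * k)) * δ * δ * hρ' - (4 / 3) * (T / k) * hδ +
    2 * (T / k) * ht

/-- The value at `σ` for the dihedral group of order `16`. -/
theorem exists_gv_one_four (hC : CentralData M 2 P e (σ ^ M₀) f) (h : M₀ = 4) :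
    ∃ t : ℂ, t * t = 2 ∧ ∀ χ : {χ : IrrCharacter G // χ ∈ B}, gv f hD χ.1 1 =
      (diffA hC hD B 0 χ : ℂ) - (diffA hC hD B 4 χ : ℂ) + (diffA hC hD B 3 χ : ℂ) * t := by
  subst h
  have h4 : (ZMod.stdAddChar (4 : ZMod (2 * 4)) : ℂ) = -1 := by
    have hsq : (ZMod.stdAddChar (4 : ZMod (2 * 4)) : ℂ) * ZMod.stdAddChar (4 : ZMod (2 * 4)) = 1 := by
      rw [← AddChar.map_add_eq_mul, show (4 : ZMod (2 * 4)) + 4 = 0 by decide, AddChar.map_zero_eq_one]
    rcases mul_self_eq_one_iff.1 hsq with h | h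
    · rw [← AddChar.map_zero_eq_one (ZMod.stdAddChar (N := 2 * 4))] at h
      exact absurd (ZMod.injective_stdAddChar h) (by decide)
    · exact h
  have hshift : ∀ j : ZMod (2 * 4),
      (ZMod.stdAddChar (4 + j) : ℂ) = -ZMod.stdAddChar j := fun j => by
    rw [AddChar.map_add_eq_mul, h4, neg_one_mul]
  refine ⟨ZMod.stdAddChar (3 : ZMod (2 * 4)) - ZMod.stdAddChar (1 : ZMod (2 * 4)), ?_, fun χ => ?_⟩
  · have h6 : (ZMod.stdAddChar (6 : ZMod (2 * 4)) : ℂ) = -ZMod.stdAddChar (2 : ZMod (2 * 4)) := by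
      rw [show (6 : ZMod (2 * 4)) = 4 + 2 by decide, hshift]
    rw [sub_mul, mul_sub, mul_sub, ← AddChar.map_add_eq_mul, ← AddChar.map_add_eq_mul,
      ← AddChar.map_add_eq_mul, ← AddChar.map_add_eq_mul, show (3 : ZMod (2 * 4)) + 3 = 6 by decide,
      show (3 : ZMod (2 * 4)) + 1 = 4 by decide, show (1 : ZMod (2 * 4)) + 3 = 4 by decide,
      show (1 : ZMod (2 * 4)) + 1 = 2 by decide, h6, h4]
    ring
  · rw [← sum_A_mul hC hD]
    simp only [one_mul]
    rw [show (∑ j : ZMod (2 * 4), (A hC hD χ.1 j : ℂ) * ZMod.stdAddChar j) =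
      (A hC hD χ.1 0 : ℂ) * ZMod.stdAddChar (0 : ZMod (2 * 4)) +
      (A hC hD χ.1 1 : ℂ) * ZMod.stdAddChar (1 : ZMod (2 * 4)) +
      (A hC hD χ.1 2 : ℂ) * ZMod.stdAddChar (2 : ZMod (2 * 4)) +
      (A hC hD χ.1 3 : ℂ) * ZMod.stdAddChar (3 : ZMod (2 * 4)) +
      (A hC hD χ.1 4 : ℂ) * ZMod.stdAddChar (4 : ZMod (2 * 4)) +
      (A hC hD χ.1 5 : ℂ) * ZMod.stdAddChar (5 : ZMod (2 * 4)) +
      (A hC hD χ.1 6 : ℂ) * ZMod.stdAddChar (6 : ZMod (2 * 4)) +
      (A hC hD χ.1 7 : ℂ) * ZMod.stdAddChar (7 : ZMod (2 * 4)) from Fin.sum_univ_eight _]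
    rw [AddChar.map_zero_eq_one, h4, show (5 : ZMod (2 * 4)) = 4 + 1 by decide, hshift,
      show (6 : ZMod (2 * 4)) = 4 + 2 by decide, hshift,
      show (7 : ZMod (2 * 4)) = 4 + 3 by decide, hshift,
      show A hC hD χ.1 (4 + 1) = A hC hD χ.1 3 by
        rw [show (4 : ZMod (2 * 4)) + 1 = -3 by decide, A_neg],
      show A hC hD χ.1 (4 + 2) = A hC hD χ.1 2 by
        rw [show (4 : ZMod (2 * 4)) + 2 = -2 by decide, A_neg],
      show A hC hD χ.1 (4 + 3) = A hC hD χ.1 1 by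
        rw [show (4 : ZMod (2 * 4)) + 3 = -1 by decide, A_neg]]
    simp only [diffA, Nat.cast_zero, Nat.cast_ofNat]
    push_cast
    ring

/-- The exceptional configuration does not occur. -/
theorem not_spur (hpM : ((2 : ℕ) : AlgInt) ∈ M) (hB : IsPBlock M B)
    (ha : IsMax 2 (blkG M B) (P, e)) (hC : CentralData M 2 P e (σ ^ M₀) f) (h : M₀ = 4) :
    ¬ Spur (fun k : Fin (M₀ - 2) => diffA hC hD B (k + 2))
        (fun k => (-1) ^ (k : ℕ)) (diffA hC hD B 0) (diffA hC hD B M₀) ∧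
      ¬ Spur (fun k : Fin (M₀ - 2) => diffA hC hD B (k + 2))
        (fun k => (-1) ^ (k : ℕ)) (diffA hC hD B M₀) (diffA hC hD B 0) := by
  obtain ⟨t, ht, hg⟩ := exists_gv_one_four hD (B := B) hC h
  subst h
  obtain ⟨ψ, hψ, hh⟩ := exists_height_zero (p := 2) hpM hB
  have hψ0 := gv_ne_zero hC hD hpM hB ha (half_ne_zero hD) hψ hh
  obtain ⟨T, hT⟩ := exists_omega_trZ hD hpM hB ha hC hψ0
  have hS := memLocalIdeal_sum_omega_trZ hD hpM hB ha hC le_rfl
  have hZ : ∀ χ : {χ : IrrCharacter G // χ ∈ B}, gv f hD χ.1 ((4 : ℕ) : ZMod (2 * 4)) =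
      ((diffA hC hD B 0 χ + diffA hC hD B 4 χ +
        2 * (diffA hC hD B 2 χ - diffA hC hD B 3 χ) : ℤ) : ℂ) := fun χ => by
    rw [gv_half_eq_zval hC hD χ]
    congr 1
    unfold zval
    rw [show (∑ k : Fin (4 - 2), (-1) ^ (k : ℕ) * diffA hC hD B (k + 2) χ) =
      diffA hC hD B 2 χ + (-1) * diffA hC hD B 3 χ from
        (Fin.sum_univ_two (f := fun k : Fin 2 => (-1) ^ (k : ℕ) * diffA hC hD B (k + 2) χ)).trans
          (by simp)]
    ring
  have hdeg := fun a => sum_degree_diffA hC hD hpM hB ha a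
  have key : ∀ (X Y : {χ : IrrCharacter G // χ ∈ B} → ℤ) (δ : ℂ), δ * δ = 1 →
      (∀ χ, X χ + Y χ = diffA hC hD B 0 χ + diffA hC hD B 4 χ) →
      (∀ χ, δ * ((X χ : ℂ) - Y χ) = (diffA hC hD B 0 χ : ℂ) - (diffA hC hD B 4 χ : ℂ)) →
      (∑ χ : {χ : IrrCharacter G // χ ∈ B}, χ.1.1 1 * (X χ : ℂ) = 0) →
      (∑ χ : {χ : IrrCharacter G // χ ∈ B}, χ.1.1 1 * (Y χ : ℂ) = 0) →
      ¬ Spur (fun k : Fin (4 - 2) => diffA hC hD B (k + 2)) (fun k => (-1) ^ (k : ℕ)) X Y := by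
    intro X Y δ hδ hsum hdiff hX hY hspur
    obtain ⟨x, hx⟩ := spur_sum hspur (fun χ => χ.1.1 1) (fun χ => irr_one_ne_zero χ.1) hX hY
      (fun m => hdeg _) ht hδ (T := T) (j := (⟨0, by norm_num⟩ : Fin (4 - 2)))
      (l := (⟨1, by norm_num⟩ : Fin (4 - 2))) (by simp) (by simp)
    have hω : ∀ χ : {χ : IrrCharacter G // χ ∈ B}, omega χ.1.1 (trZ M P e (σ ^ 4)) =
        T * ((X χ + Y χ + 2 * (diffA hC hD B 2 χ - diffA hC hD B 3 χ) : ℤ) : ℂ) / χ.1.1 1 :=
      fun χ => by rw [hT, hZ, hsum]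
    have h3 : (3 : ℂ) * ∑ χ ∈ Finset.univ.filter (· ∈ B), omega χ.1 (trZ M P e (σ ^ 4)) *
        (gv f hD χ 1 * gv f hD χ 1 / ((2 * 4 : ℕ) : ℂ)) = omega x.1.1 (trZ M P e (σ ^ 4)) := by
      rw [Finset.sum_subtype (Finset.univ.filter (· ∈ B)) (p := (· ∈ B)) (by simp)]
      calc (3 : ℂ) * ∑ χ : {χ : IrrCharacter G // χ ∈ B}, omega χ.1.1 (trZ M P e (σ ^ 4)) *
            (gv f hD χ.1 1 * gv f hD χ.1 1 / ((2 * 4 : ℕ) : ℂ))
          = 3 / 8 * ∑ χ : {χ : IrrCharacter G // χ ∈ B},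
              T * ((X χ + Y χ + 2 * (diffA hC hD B 2 χ - diffA hC hD B 3 χ) : ℤ) : ℂ) / χ.1.1 1 *
              ((δ * ((X χ : ℂ) - Y χ) + (diffA hC hD B 3 χ : ℂ) * t) *
                (δ * ((X χ : ℂ) - Y χ) + (diffA hC hD B 3 χ : ℂ) * t)) := by
            rw [Finset.mul_sum, Finset.mul_sum]
            refine Finset.sum_congr rfl fun χ _ => ?_
            rw [hω, hg, hdiff]
            push_cast
            ring
        _ = 3 / 8 * (8 / 3 * (T * ((X x + Y x + 2 * (diffA hC hD B 2 x - diffA hC hD B 3 x) : ℤ) : ℂ)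
              / x.1.1 1)) := congrArg (fun v : ℂ => 3 / 8 * v) hx
        _ = _ := by rw [hω]; ring
    have hx0 : MemLocalIdeal M (omega x.1.1 (trZ M P e (σ ^ 4))) := by
      rw [← h3]
      exact MemLocalIdeal.mul_left (by exact_mod_cast memLocalRing_natCast (M := M) 3) hS
    refine omega_relTr_ne_zero hD hB ha ?_
    rw [← redA_trZ hD ha, BrauerPairs.omega_blkG hB x.2 (isCentralElt_trZ hD) (scoeff_trZ hD ha)]
    exact red_eq_zero_of_mem hx0
  exact ⟨key _ _ 1 (by ring) (fun χ => rfl) (fun χ => one_mul _) (hdeg 0) (hdeg 4),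
    key _ _ (-1) (by ring) (fun χ => add_comm _ _) (fun χ => by ring) (hdeg 4) (hdeg 0)⟩

end Cfsg.Agent.DihedralDefect
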