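import Cfsg.Agent.Lib.Blocks.NilpotentRank.Sections
import Cfsg.Agent.Lib.BrauerPairs.Map
import Cfsg.Agent.Lib.Blocks.Contribution

/-!
# Structure constants on one subsection

For a subsection `(x, b)` of the block `B` and a central element `a`, the sum
`∑ ω_χ(a) * m^b(χ, χ)` is congruent to zero modulo `M` as soon as certain coefficients in the group
algebra, indexed by the regular classes `r` of `C(x)`, are.
-/

set_option autoImplicit false
set_option linter.unusedSectionVars false
set_option linter.style.haveILetI false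

namespace Cfsg.Agent.DihedralDefect

open Cfsg Blocks MonoidAlgebra
open Cfsg.Agent.BrauerPairs (conjEl coeff_conjEl conjEl_mul regDot regDot_comm regDot_eq_zero)
open Cfsg.Agent.Blocks.NilRank
open scoped Classical ComplexConjugate

universe u

variable {G : Type u} [Group G] [Fintype G] {M : Ideal AlgInt} [M.IsMaximal] {p : ℕ}
  [hp : Fact p.Prime]

theorem conjEl_single {R : Type*} [CommRing R] (g a : G) (r : R) :
    conjEl g (single a r) = single (g * a * g⁻¹) r := by
  simp [conjEl]

theorem conjEl_of_isCentralElt {R : Type*} [CommRing R] {z : MonoidAlgebra R G}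
    (hz : IsCentralElt z) (g : G) : conjEl g z = z := alg_ext fun y => by
  rw [coeff_conjEl]
  simpa using hz y g⁻¹

/-- The second orthogonality relation in the group algebra. -/
theorem sum_chiL_mul_chiL (U V : MonoidAlgebra ℂ G) :
    ∑ χ : IrrCharacter G, chiL χ.1 U * chiL χ.1 V = ∑ t : G, (conjEl t U * V).coeff 1 := by
  simp only [chiL_eq_sum, Finset.sum_mul_sum]
  rw [Finset.sum_comm]
  have h1 : ∀ g : G, (∑ χ : IrrCharacter G, ∑ g', U.coeff g * χ.1 g * (V.coeff g' * χ.1 g')) =
      ∑ t : G, U.coeff g * V.coeff (t * g⁻¹ * t⁻¹) := by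
    intro g
    rw [Finset.sum_comm]
    have h2 : ∀ g' : G, ∑ χ : IrrCharacter G, χ.1 g * χ.1 g' =
        ∑ t : G, if t * g⁻¹ * t⁻¹ = g' then (1 : ℂ) else 0 := by
      intro g'
      have h3 := Char.sum_irr_mul_conj g g'⁻¹
      simp only [Char.IsCharacter.conj_apply (Char.irr_isCharacter _), inv_inv] at h3
      rw [h3, Finset.sum_boole]
      split_ifs with hc
      · obtain ⟨t₀, ht₀⟩ := isConj_iff.1 hc
        rw [Nat.card_eq_fintype_card, Fintype.card_subtype]
        congr 1
        refine Finset.card_bij' (fun c _ => c * t₀) (fun t _ => t * t₀⁻¹) (fun c hc' => ?_)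
          (fun t ht => ?_) (fun c _ => by group) (fun t _ => by group)
        · have h4 := (Finset.mem_filter.1 hc').2
          rw [Subgroup.mem_centralizer_singleton_iff] at h4
          refine Finset.mem_filter.2 ⟨Finset.mem_univ _, ?_⟩
          calc c * t₀ * g⁻¹ * (c * t₀)⁻¹ = c * (t₀ * g * t₀⁻¹)⁻¹ * c⁻¹ := by group
            _ = c * g' * c⁻¹ := by rw [ht₀, inv_inv]
            _ = g' := by
              rw [mul_inv_eq_iff_eq_mul]
              have h5 := congrArg (fun y => g' * y * g') h4
              simpa [mul_assoc] using h5.symm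
        · have h4 := (Finset.mem_filter.1 ht).2
          refine Finset.mem_filter.2 ⟨Finset.mem_univ _, ?_⟩
          rw [Subgroup.mem_centralizer_singleton_iff]
          have h5 : t * g⁻¹ * t⁻¹ = g' := h4
          have h6 : t * g * t⁻¹ = t₀ * g * t₀⁻¹ := by rw [ht₀, ← h5]; group
          rw [← ht₀]
          calc t * t₀⁻¹ * (t₀ * g * t₀⁻¹) = (t * g * t⁻¹) * (t * t₀⁻¹) := by group
            _ = t₀ * g * t₀⁻¹ * (t * t₀⁻¹) := by rw [h6]
      · rw [Finset.filter_false_of_mem fun t _ ht => hc (isConj_iff.2 ⟨t, by rw [← ht]; group⟩)]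
        simp
    calc ∑ g', ∑ χ : IrrCharacter G, U.coeff g * χ.1 g * (V.coeff g' * χ.1 g')
        = ∑ g', U.coeff g * V.coeff g' * ∑ t : G, (if t * g⁻¹ * t⁻¹ = g' then (1 : ℂ) else 0) := by
          refine Finset.sum_congr rfl fun g' _ => ?_
          rw [← h2, Finset.mul_sum]
          exact Finset.sum_congr rfl fun χ _ => by ring
      _ = _ := by
          simp only [Finset.mul_sum, mul_ite, mul_one, mul_zero]
          rw [Finset.sum_comm]
          simp
  rw [Finset.sum_congr rfl fun g _ => h1 g, Finset.sum_comm]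
  refine Finset.sum_congr rfl fun t _ => ?_
  rw [coeff_mul_eq_sum]
  refine Fintype.sum_equiv (MulAut.conj t).toEquiv _ _ fun g => ?_
  simp only [coeff_conjEl, MulEquiv.toEquiv_eq_coe, MulEquiv.coe_toEquiv, MulAut.conj_apply, mul_one]
  congr 1
  · congr 1; group
  · congr 1; group

variable {H : Subgroup G} [Fintype H] {x : G}

/-- The `b`-part of `χ` at `x * s`. -/
noncomputable def etaF (x : G) (b : Set (IrrCharacter H)) (χ : G → ℂ) (s : H) : ℂ :=
  chiL χ (inclA H (blockIdem b) * single (x * (s : G)) 1)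

/-- The contribution as an inner product of the `b`-parts. -/
theorem sectF_eq_sum_etaF (hpM : (p : AlgInt) ∈ M) (hxH : x ∈ H) (hxc : ∀ s ∈ H, Commute x s)
    {b : Set (IrrCharacter H)} (hb : IsPBlock M b) (χ ψ : IrrCharacter G) :
    sectF p H x b χ.1 ψ.1 = (Nat.card H : ℂ)⁻¹ * ∑ s : H,
      if IsPRegular p s then etaF x b χ.1 s * conj (etaF x b ψ.1 s) else 0 := by
  rw [sectF_eq hxH hxc]
  have hreg : ∀ η ∈ Finset.univ.filter (· ∈ b), regDot p (transFun (H := H) x ψ.1) η.1 =
      ∑ η' ∈ Finset.univ.filter (· ∈ b), classInner (transFun x ψ.1) η'.1 * regDot p η'.1 η.1 := by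
    intro η hη
    conv_lhs => rw [regDot, Char.eq_sum_classInner_smul
      (isClassFunction_transFun hxc (irr_classFun ψ)), BrauerPairs.regFun_sum,
      Char.classInner_sum_left]
    simp only [Char.classInner_smul_left]
    refine (Finset.sum_filter_of_ne fun ν _ hne => ?_).symm
    by_contra hν
    refine hne ?_
    show _ * regDot p ν.1 η.1 = 0
    rw [regDot_comm hp.out, regDot_eq_zero hpM hp.out hb (Finset.mem_filter.1 hη).2 hν, mul_zero]
  rw [Finset.sum_congr rfl fun η hη => by rw [hreg η hη]]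
  simp only [map_sum, map_mul, Finset.mul_sum, regDot, classInner, map_inv₀, map_natCast,
    Complex.conj_conj]
  rw [Finset.sum_congr rfl fun η _ => Finset.sum_comm, Finset.sum_comm]
  refine Finset.sum_congr rfl fun s _ => ?_
  by_cases hs : IsPRegular p s
  · have hs' : ¬ p ∣ orderOf s := hs
    rw [if_pos hs, etaF, etaF, chiL_block_translate hxH hxc, chiL_block_translate hxH hxc, map_sum,
      Finset.sum_mul_sum, Finset.mul_sum]
    refine Finset.sum_congr rfl fun η _ => ?_
    rw [Finset.mul_sum]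
    refine Finset.sum_congr rfl fun η' _ => ?_
    simp only [Char.regFun, if_neg hs', map_mul, classInner, map_sum, map_inv₀, map_natCast,
      Complex.conj_conj, Finset.mul_sum, Finset.sum_mul]
    refine Finset.sum_congr rfl fun a _ => ?_
    exact Finset.sum_congr rfl fun a' _ => by ring
  · have hs' : p ∣ orderOf s := not_not.1 hs
    rw [if_neg hs, mul_zero]
    exact Finset.sum_eq_zero fun η _ => Finset.sum_eq_zero fun η' _ => by simp [Char.regFun, hs']

/-- On a subsection whose contributions are `f χ * conj (f ψ)` the `b`-parts are proportional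
to `f`. -/
theorem etaF_proportional (hpM : (p : AlgInt) ∈ M) (hxH : x ∈ H) (hxc : ∀ s ∈ H, Commute x s)
    {b : Set (IrrCharacter H)} (hb : IsPBlock M b) {c : ℂ} (hc : c ≠ 0) (f : IrrCharacter G → ℂ)
    (hf : ∀ χ ψ, c * sectF p H x b χ.1 ψ.1 = f χ * conj (f ψ)) (χ ψ : IrrCharacter G) {s : H}
    (hs : IsPRegular p s) : f ψ * etaF x b χ.1 s = f χ * etaF x b ψ.1 s := by
  let R : IrrCharacter G → IrrCharacter G → ℂ := fun φ φ' => ∑ t : H,
    if IsPRegular p t then etaF x b φ.1 t * conj (etaF x b φ'.1 t) else 0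
  have hR : ∀ φ φ', c * ((Nat.card H : ℂ)⁻¹ * R φ φ') = f φ * conj (f φ') := fun φ φ' => by
    rw [← hf, sectF_eq_sum_etaF hpM hxH hxc hb]
  let w : H → ℂ := fun t => f ψ * etaF x b χ.1 t - f χ * etaF x b ψ.1 t
  have hzero : c * (Nat.card H : ℂ)⁻¹ *
      ∑ t : H, (if IsPRegular p t then w t * conj (w t) else 0) = 0 := by
    have e : ∑ t : H, (if IsPRegular p t then w t * conj (w t) else 0) =
        f ψ * conj (f ψ) * R χ χ - f ψ * conj (f χ) * R χ ψ - f χ * conj (f ψ) * R ψ χ +
          f χ * conj (f χ) * R ψ ψ := by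
      simp only [R, Finset.mul_sum, ← Finset.sum_sub_distrib, ← Finset.sum_add_distrib]
      refine Finset.sum_congr rfl fun t _ => ?_
      split_ifs
      · simp only [w, map_sub, map_mul]; ring
      · ring
    rw [e]
    linear_combination (f ψ * conj (f ψ)) * hR χ χ - (f ψ * conj (f χ)) * hR χ ψ -
      (f χ * conj (f ψ)) * hR ψ χ + (f χ * conj (f χ)) * hR ψ ψ
  have hsum := (mul_eq_zero.1 hzero).resolve_left
    (mul_ne_zero hc (inv_ne_zero (Nat.cast_ne_zero.2 Nat.card_pos.ne')))
  have hreal : ∑ t : H, (if IsPRegular p t then ‖w t‖ ^ 2 else 0 : ℝ) = 0 := by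
    refine Complex.ofReal_injective ?_
    rw [Complex.ofReal_zero, Complex.ofReal_sum, ← hsum]
    refine Finset.sum_congr rfl fun t _ => ?_
    split_ifs
    · rw [Complex.mul_conj']; push_cast; rfl
    · simp
  have h := (Finset.sum_eq_zero_iff_of_nonneg fun t _ => by split_ifs <;> positivity).1 hreal s
    (Finset.mem_univ _)
  rw [if_pos hs] at h
  exact sub_eq_zero.1 (norm_eq_zero.1 (pow_eq_zero_iff two_ne_zero |>.1 h))

theorem conj_etaF (hxc : ∀ s ∈ H, Commute x s) (b : Set (IrrCharacter H))
    (χ : IrrCharacter G) (s : H) (hxH : x ∈ H) :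
    conj (etaF x b χ.1 s) = chiL χ.1 (inclA H (blockIdem b) * single (x * (s : G))⁻¹ 1) := by
  obtain ⟨h, hh⟩ : ∃ h : H, x * (s : G) = (h : G) := ⟨⟨x, hxH⟩ * s, rfl⟩
  rw [etaF, hh, show ((h : G))⁻¹ = ((h⁻¹ : H) : G) from rfl, chiL_inclA_mul_single,
    chiL_inclA_mul_single, map_sum]
  refine Fintype.sum_equiv (Equiv.inv H) _ _ fun k => ?_
  simp only [Equiv.inv_apply, map_mul, Subgroup.coe_inv, coeff_blockIdem]
  congr 1
  · rw [blockCoeff_eq_sum, blockCoeff_eq_sum, map_mul, map_sum, map_inv₀, map_natCast]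
    congr 1
    refine Finset.sum_congr rfl fun η _ => ?_
    rw [map_mul, Complex.conj_conj, Char.IsCharacter.conj_apply (Char.irr_isCharacter η) k⁻¹,
      inv_inv, Char.apply_one_eq_degree, map_natCast]
  · rw [Char.IsCharacter.conj_apply (Char.irr_isCharacter χ), mul_inv_rev,
      Char.IsClassFunction.apply_mul_comm (irr_classFun χ)]

theorem sum_quotient (C : Subgroup G) [Fintype C] (F : G → ℂ) :
    ∑ g : G, F g = ∑ q : G ⧸ C, ∑ c : C, F (q.out * (c : G)) := by
  rw [← Finset.sum_fiberwise Finset.univ (QuotientGroup.mk : G → G ⧸ C) F]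
  refine Finset.sum_congr rfl fun q _ => ?_
  refine Finset.sum_bij' (fun g hg => ⟨q.out⁻¹ * g, QuotientGroup.eq.1 (by
      rw [QuotientGroup.out_eq']; exact (Finset.mem_filter.1 hg).2.symm)⟩)
    (fun c _ => q.out * (c : G)) (fun _ _ => Finset.mem_univ _) (fun c _ => ?_) (fun g _ => ?_)
    (fun c _ => ?_) (fun g _ => ?_)
  · refine Finset.mem_filter.2 ⟨Finset.mem_univ _, ?_⟩
    conv_rhs => rw [← QuotientGroup.out_eq' q]
    exact (QuotientGroup.eq.2 (by simp)).symm
  · simp
  · exact Subtype.ext (by simp)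
  · simp

/-- A class function summed over the classes. -/
theorem sum_classFun_eq_sum_classes {K : Type*} [Group K] [Fintype K] [Fintype (ConjClasses K)]
    (F : K → ℂ)
    (hF : IsClassFunction K F) :
    ∑ k, F k = ∑ C : ConjClasses K,
      ((Subgroup.centralizer ({C.out} : Set K)).index : ℂ) * F C.out := by
  rw [← Finset.sum_fiberwise Finset.univ ConjClasses.mk F]
  refine Finset.sum_congr rfl fun C _ => ?_
  have hout : ConjClasses.mk C.out = C := Quotient.out_eq C
  rw [Finset.sum_congr rfl (g := fun _ => F C.out) fun k hk => ?_, Finset.sum_const, nsmul_eq_mul]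
  · congr 2
    rw [← card_isConj_eq_index, Nat.card_eq_fintype_card, Fintype.card_subtype]
    refine congrArg Finset.card (Finset.filter_congr fun k _ => ?_)
    conv_lhs => rw [← hout, ConjClasses.mk_eq_mk_iff_isConj]
    exact ⟨fun h => h.symm, fun h => h.symm⟩
  · have h1 := (Finset.mem_filter.1 hk).2
    rw [← hout, ConjClasses.mk_eq_mk_iff_isConj] at h1
    exact Char.IsClassFunction.apply_of_isConj hF h1

/-- The sum of the conjugates of a single element. -/
theorem sum_conjEl_single {K : Type*} [Group K] [Fintype K] (r : K) :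
    ∑ c : K, single (c * r * c⁻¹) (1 : ℂ) =
      (Nat.card (Subgroup.centralizer ({r} : Set K)) : ℂ) • classSum ℂ r := by
  refine alg_ext fun g => ?_
  rw [coeff_smul_apply, coeff_classSum, smul_eq_mul, coeff_sum, Finsupp.finsetSum_apply]
  simp only [coeff_single, Finsupp.single_apply, Finset.sum_boole]
  split_ifs with hc
  · obtain ⟨c₀, rfl⟩ := isConj_iff.1 hc
    rw [mul_one, Nat.card_eq_fintype_card, Fintype.card_subtype]
    congr 1
    refine Finset.card_bij' (fun c _ => c₀⁻¹ * c) (fun d _ => c₀ * d) (fun c hc' => ?_)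
      (fun d hd => ?_) (fun c _ => by group) (fun d _ => by group)
    · have h4 := (Finset.mem_filter.1 hc').2
      refine Finset.mem_filter.2 ⟨Finset.mem_univ _, ?_⟩
      rw [Subgroup.mem_centralizer_singleton_iff]
      calc c₀⁻¹ * c * r = c₀⁻¹ * (c * r * c⁻¹) * c := by group
        _ = r * (c₀⁻¹ * c) := by rw [h4]; group
    · have h4 := (Finset.mem_filter.1 hd).2
      rw [Subgroup.mem_centralizer_singleton_iff] at h4
      refine Finset.mem_filter.2 ⟨Finset.mem_univ _, ?_⟩
      calc c₀ * d * r * (c₀ * d)⁻¹ = c₀ * (d * r) * d⁻¹ * c₀⁻¹ := by group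
        _ = c₀ * r * c₀⁻¹ := by rw [h4]; group
  · rw [mul_zero, Finset.filter_false_of_mem fun c _ h => hc (isConj_iff.2 ⟨c, h⟩)]
    simp

/-- The structure constant on the subsection `(x, b)` at the class of `r`. -/
noncomputable def structD (a : MonoidAlgebra ℂ G) (x : G) (b : Set (IrrCharacter H)) (r : H) : ℂ :=
  ∑ q : G ⧸ H,
    (a * conjEl q.out (inclA _ (blockIdem b * classSum ℂ r) * single x 1) *
      inclA _ (blockIdem b)).coeff (x * (r : G))

theorem sum_omega_sectF_aux {x : G} (hpM : (p : AlgInt) ∈ M) (hxH : x ∈ H)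
    (hxc : ∀ s ∈ H, Commute x s) {B : Set (IrrCharacter G)}
    {b : Set (IrrCharacter H)} (hb : IsPBlock M b)
    (hvan : ∀ χ : IrrCharacter G, χ ∉ B → ∀ s : H, IsPRegular p s → etaF x b χ.1 s = 0)
    {a : MonoidAlgebra ℂ G} (ha : IsCentralElt a) :
    ∑ χ ∈ Finset.univ.filter (· ∈ B), omega χ.1 a * sectF p H x b χ.1 χ.1 =
      ∑ C : ConjClasses H, if IsPRegular p C.out then structD a x b C.out else 0 := by
  let Φ : H → ℂ := fun s => ∑ χ : IrrCharacter G,
    omega χ.1 a * (etaF x b χ.1 s * conj (etaF x b χ.1 s))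
  have hΦclass : IsClassFunction H Φ := fun s t => by
    have he : ∀ χ : IrrCharacter G, etaF x b χ.1 (t * s * t⁻¹) = etaF x b χ.1 s := fun χ => by
      simp only [etaF, chiL_block_translate hxH hxc]
      exact Finset.sum_congr rfl fun η _ => by rw [irr_classFun η]
    simp only [Φ, he]
  have hsum : ∑ χ ∈ Finset.univ.filter (· ∈ B), omega χ.1 a * sectF p H x b χ.1 χ.1 =
      (Nat.card H : ℂ)⁻¹ * ∑ s : H, if IsPRegular p s then Φ s else 0 := by
    simp only [sectF_eq_sum_etaF hpM hxH hxc hb, Finset.mul_sum]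
    rw [Finset.sum_comm]
    refine Finset.sum_congr rfl fun s _ => ?_
    split_ifs with hs
    · simp only [Φ, Finset.mul_sum]
      rw [Finset.sum_filter]
      refine Finset.sum_congr rfl fun χ _ => ?_
      split_ifs with hχ
      · ring
      · rw [hvan χ hχ s hs]; ring
    · simp
  have hclass : IsClassFunction H fun s => if IsPRegular p s then Φ s else 0 := fun s t => by
    refine if_congr ?_ (hΦclass s t) rfl
    rw [IsPRegular, IsPRegular, show t * s * t⁻¹ = MulAut.conj t s from rfl, MulEquiv.orderOf_eq]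
  have hΦ : ∀ r : H, Φ r =
      (Nat.card (Subgroup.centralizer ({r} : Set H)) : ℂ) * structD a x b r := by
    intro r
    set E := inclA H (blockIdem b) with hE
    have h1 : Φ r = ∑ t : G, (a * conjEl t (E * single (x * (r : G)) 1) * E).coeff (x * (r : G)) := by
      have e : ∀ χ : IrrCharacter G, omega χ.1 a * (etaF x b χ.1 r * conj (etaF x b χ.1 r)) =
          chiL χ.1 (a * (E * single (x * (r : G)) 1)) * chiL χ.1 (E * single (x * (r : G))⁻¹ 1) :=
        fun χ => by rw [chiL_mul_of_central χ ha, conj_etaF hxc b χ r hxH, etaF]; ring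
      simp only [Φ, e, sum_chiL_mul_chiL, map_mul (conjEl _), conjEl_of_isCentralElt ha]
      refine Finset.sum_congr rfl fun t _ => ?_
      rw [← mul_assoc, coeff_mul_single' _ (x * (r : G))⁻¹]
      simp
    have h2 : ∀ q : G, ∑ c : H, (a * conjEl (q * (c : G)) (E * single (x * (r : G)) 1) * E) =
        (Nat.card (Subgroup.centralizer ({r} : Set H)) : ℂ) •
          (a * conjEl q (inclA H (blockIdem b * classSum ℂ r) * single x 1) * E) := by
      intro q
      have hc : ∀ c : H, conjEl (c : G) (E * single (x * (r : G)) 1) =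
          inclA H (blockIdem b * single (c * r * c⁻¹) 1) * single x 1 := by
        intro c
        have hEc : conjEl (c : G) E = E := alg_ext fun y => by
          rw [coeff_conjEl, hE]
          by_cases hy : y ∈ H
          · obtain ⟨y', rfl⟩ : ∃ y' : H, (y' : G) = y := ⟨⟨y, hy⟩, rfl⟩
            rw [show (c : G)⁻¹ * y' * c = ((c⁻¹ * y' * c : H) : G) from rfl, coeff_inclA,
              coeff_inclA]
            simpa using isCentralElt_blockIdem b y' c⁻¹
          · rw [coeff_inclA_of_notMem _ hy, coeff_inclA_of_notMem]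
            exact fun h => hy (by simpa [mul_assoc] using mul_mem (mul_mem c.2 h) (inv_mem c.2))
        rw [map_mul, hEc, conjEl_single, map_mul, inclA_single, ← hE, mul_assoc E,
          MonoidAlgebra.single_mul_single, one_mul]
        congr 2
        show (c : G) * (x * (r : G)) * (c : G)⁻¹ = (c : G) * (r : G) * (c : G)⁻¹ * x
        rw [(hxc r r.2).eq]
        have := (hxc c⁻¹ (inv_mem c.2)).eq
        simp only [mul_assoc, this]
      rw [← Finset.sum_mul, ← Finset.mul_sum]
      simp only [conjEl_mul, ← map_sum, hc, ← Finset.sum_mul, ← map_sum, ← Finset.mul_sum,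
        sum_conjEl_single]
      rw [mul_smul_comm, show inclA H ((Nat.card (Subgroup.centralizer ({r} : Set H)) : ℂ) •
          (blockIdem b * classSum ℂ r)) = (Nat.card (Subgroup.centralizer ({r} : Set H)) : ℂ) •
          inclA H (blockIdem b * classSum ℂ r) from MonoidAlgebra.mapDomain_smul _ _ _,
        smul_mul_assoc, map_smul, mul_smul_comm, smul_mul_assoc]
    rw [h1, sum_quotient H, structD, Finset.mul_sum]
    refine Finset.sum_congr rfl fun q _ => ?_
    have h3 := congrArg (fun z : MonoidAlgebra ℂ G => z.coeff (x * (r : G))) (h2 q.out)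
    simp only [coeff_sum, Finsupp.finsetSum_apply, coeff_smul_apply, smul_eq_mul] at h3
    exact h3
  clear_value Φ
  rw [hsum, sum_classFun_eq_sum_classes _ hclass, Finset.mul_sum]
  have key : ∀ C : ConjClasses H, (Nat.card H : ℂ)⁻¹ *
      ((((Subgroup.centralizer ({C.out} : Set H)).index : ℕ) : ℂ) *
        if IsPRegular p C.out then Φ C.out else 0) =
      if IsPRegular p C.out then structD a x b C.out else 0 := fun C => by
    by_cases hC : IsPRegular p C.out
    · rw [if_pos hC, if_pos hC, hΦ, ← mul_assoc, ← mul_assoc, mul_assoc (Nat.card H : ℂ)⁻¹,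
        ← Nat.cast_mul, mul_comm (Subgroup.index _), Subgroup.card_mul_index,
        inv_mul_cancel₀ (Nat.cast_ne_zero.2 Nat.card_pos.ne'), one_mul]
    · rw [if_neg hC, if_neg hC, mul_zero, mul_zero]
  simp only [key]

theorem sum_omega_sectF {x : G} [Fintype (Subgroup.centralizer ({x} : Set G))]
    (hpM : (p : AlgInt) ∈ M) (hx : ∃ k, orderOf x = p ^ k) {B : Set (IrrCharacter G)}
    {b : Set (IrrCharacter (Subgroup.centralizer ({x} : Set G)))}
    (hb : IsInducedBlock M (Subgroup.centralizer ({x} : Set G)) b B)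
    {a : MonoidAlgebra ℂ G} (ha : IsCentralElt a) :
    ∑ χ ∈ Finset.univ.filter (· ∈ B),
        omega χ.1 a * sectF p (Subgroup.centralizer ({x} : Set G)) x b χ.1 χ.1 =
      ∑ C : ConjClasses (Subgroup.centralizer ({x} : Set G)),
        if IsPRegular p C.out then structD a x b C.out else 0 := by
  refine sum_omega_sectF_aux hpM (Subgroup.mem_centralizer_singleton_iff.2 rfl)
    (fun s hs => (Subgroup.mem_centralizer_singleton_iff.1 hs).symm) hb.1 (fun χ hχ s hs => ?_) ha
  refine second_main_centralizer hpM hx hb.1 (fun h => hχ ?_)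
    (h := (secElt x * s : Subgroup.centralizer ({x} : Set G))) ?_
  · rw [IsInducedBlock.unique hb h]
    exact mem_blockOf_self χ
  · exact isPPart_mul (Subgroup.mem_centralizer_singleton_iff.1 s.2).symm hx
      (by rw [IsPRegular, Subgroup.orderOf_coe]; exact hs)

end Cfsg.Agent.DihedralDefect
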